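import Groth.Agent.ProjMor.ProjSpaceBase
import Groth.Agent.TMul.Pullback
import Groth.Prelude.Def_LCI2

/-!
Maps to `P^n_S` from generating sections; immersion criteria; ampleness of `O(1)` over an affine base.
-/

set_option autoImplicit false
set_option backward.isDefEq.respectTransparency false

universe u

open CategoryTheory CategoryTheory.Limits TopologicalSpace AlgebraicGeometry Opposite
open Groth.Agent.QC (res resO res_res res_smul resO_resO app_res)
open TMul (IsGen val homOf val_homOf)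

noncomputable section

namespace ProjMor

variable {X S : Scheme.{u}}

/-- `P^n_S ⟶ P^n_ℤ`. -/
def pz (n : ℕ) (S : Scheme.{u}) : CohB1.ProjSpaceOver n S ⟶ CohB1.ProjSpace n (ULift.{u} ℤ) :=
  pullback.fst _ _

/-- The chart `D₊(T_j)` of `P^n_ℤ`. -/
def chart (n : ℕ) (j : Fin (n + 1)) : (CohB1.ProjSpace n (ULift.{u} ℤ)).Opens :=
  Proj.basicOpen (CohB1.polyGrading n (ULift.{u} ℤ)) (MvPolynomial.X j)

lemma isAffineOpen_chart (n : ℕ) (j : Fin (n + 1)) : IsAffineOpen (chart.{u} n j) :=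
  ProjLib.isAffineOpen_basicOpen _ (MvPolynomial.isHomogeneous_X _ j) one_pos

/-- The coordinate functions `T_k / T_j`. -/
def ratio (n : ℕ) (j k : Fin (n + 1)) : Γ(CohB1.ProjSpace n (ULift.{u} ℤ), chart.{u} n j) :=
  GrT.deh (CohB1.polyGrading n (ULift.{u} ℤ)) (MvPolynomial.isHomogeneous_X _ j) (MvPolynomial.X k)

/-- A generator near every point generates the stalks. -/
theorem generatedBy_of_mem_genLocus {L : X.Modules} {ι : Type*} (s : ι → ProjUP.Γm L)
    (h : ∀ x : X, ∃ i, x ∈ CohB1.genLocus L (homOf (s i))) : ProjUP.GeneratedBy L s := fun x => by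
  obtain ⟨i, hx⟩ := h x
  refine eq_top_iff.mpr fun z _ => ?_
  obtain ⟨U, hxU, t, rfl⟩ := TopCat.Presheaf.exists_germ_eq (C := Ab.{u}) L.presheaf z
  obtain ⟨c, hc⟩ := (isGen_homOf (s i) (U ⊓ CohB1.genLocus L (homOf (s i))) inf_le_right).2
    (res L inf_le_left t)
  simp only [res_res] at hc
  have hx' : x ∈ U ⊓ CohB1.genLocus L (homOf (s i)) := ⟨hxU, hx⟩
  change gs L hxU t ∈ _
  rw [← gs_res inf_le_left hx', ← hc, gs_smul, gs_res]
  exact Submodule.smul_mem _ _ (Submodule.subset_span ⟨i, rfl⟩)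

/-- Generating sections give a map to `P^n_S`. -/
theorem exists_toProjSpaceOver (f : X ⟶ S) {L : X.Modules} (hL : PicF.IsInvertible L) {n : ℕ}
    (s : Fin (n + 1) → ProjUP.Γm L) (hs : ProjUP.GeneratedBy L s) :
    ∃ i : X ⟶ CohB1.ProjSpaceOver n S, i ≫ CohB1.ProjSpaceOver.toBase n S = f ∧
      Nonempty (L ≅ (Scheme.Modules.pullback i).obj (Twist.twistOver n S 1)) ∧
      ∀ j, ∃ _ : (i ≫ pz n S) ⁻¹ᵁ chart n j = CohB1.genLocus L (homOf (s j)), ∀ k,
        ev (i ≫ pz n S) (chart n j) ((i ≫ pz n S) ⁻¹ᵁ chart n j) le_rfl (ratio n j k) •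
            res L (le_top : (i ≫ pz n S) ⁻¹ᵁ chart n j ≤ ⊤) (s j) =
          res L (le_top : (i ≫ pz n S) ⁻¹ᵁ chart n j ≤ ⊤) (s k) := by
  let Z := ULift.{u} ℤ
  obtain ⟨r, hr, τ, hτ⟩ := exists_projSpace (R := Z) (f ≫ specULiftZIsTerminal.from S) hL s hs
  let i : X ⟶ CohB1.ProjSpaceOver n S := pullback.lift r f hr
  have hi1 : i ≫ pz n S = r := pullback.lift_fst _ _ _
  refine ⟨i, pullback.lift_snd _ _ _, ⟨τ.symm ≪≫ (Scheme.Modules.pullbackCongr hi1.symm).app _ ≪≫
    ((Scheme.Modules.pullbackComp i (pz n S)).app _).symm⟩, ?_⟩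
  rw [hi1]
  intro j
  have hX : ∀ k, MvPolynomial.X k ∈ CohB1.polyGrading n Z 1 := MvPolynomial.isHomogeneous_X Z
  have hpull : ∀ k, τ.hom.app ⊤ (pull1 r (hX k)) = s k := hτ
  refine ⟨?_, fun k => ?_⟩
  · rw [← hpull j, homOf_app, TMul.genLocus_comp]
    exact (genLocus_pull1 (genDegOne_projSpace n Z) r (hX j)).symm
  · rw [← hpull k, ← hpull j]
    refine ((app_res τ.hom _ _).trans ((congrArg (τ.hom.app (r ⁻¹ᵁ chart n j))
      (res_pull1 r (hX j) (hX k) le_rfl)).trans ((TMul.app_smul _ _ _).trans ?_))).symm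
    exact congrArg (fun t : Γ(L, r ⁻¹ᵁ chart n j) =>
      ev r (chart n j) (r ⁻¹ᵁ chart n j) le_rfl (ratio n j k) • t) (app_res τ.hom _ _).symm

/-- Immersions are detected on opens meeting the image. -/
theorem isImmersion_of_forall {P : Scheme.{u}} (i : X ⟶ P)
    (h : ∀ x : X, ∃ W : P.Opens, i.base x ∈ W ∧ IsImmersion (i ∣_ W)) : IsImmersion i := by
  choose W hxW hW using h
  let O : P.Opens := ⨆ x, W x
  have hO : i ⁻¹ᵁ O = ⊤ := top_le_iff.mp fun x _ => Opens.mem_iSup.mpr ⟨x, hxW x⟩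
  have : IsImmersion (i ∣_ O) := by
    refine IsZariskiLocalAtTarget.of_iSup_eq_top (P := @IsImmersion) (fun x => O.ι ⁻¹ᵁ W x) ?_ fun x => ?_
    · refine top_le_iff.mp fun z _ => ?_
      obtain ⟨x, hx⟩ := Opens.mem_iSup.mp z.2
      exact Opens.mem_iSup.mpr ⟨x, hx⟩
    · refine (MorphismProperty.arrow_mk_iso_iff @IsImmersion
        (morphismRestrictRestrict i O _ ≪≫ morphismRestrictEq i ?_)).mpr (hW x)
      rw [Scheme.Hom.image_preimage_eq_opensRange_inf, Scheme.Opens.opensRange_ι]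
      exact inf_eq_right.mpr (le_iSup W x)
  have : IsIso (i ⁻¹ᵁ O).ι := by rw [hO]; exact inferInstanceAs (IsIso X.topIso.hom)
  have h2 : IsImmersion ((i ⁻¹ᵁ O).ι ≫ i) := by rw [← morphismRestrict_ι]; infer_instance
  exact (MorphismProperty.cancel_left_of_respectsIso @IsImmersion _ _).mp h2

/-- The affine charts of `P^n_S`. -/
def chartOver (n : ℕ) (j : Fin (n + 1)) (V : S.Opens) : (CohB1.ProjSpaceOver n S).Opens :=
  pz n S ⁻¹ᵁ chart n j ⊓ CohB1.ProjSpaceOver.toBase n S ⁻¹ᵁ V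

lemma isAffineOpen_chartOver (n : ℕ) (j : Fin (n + 1)) {V : S.Opens} (hV : IsAffineOpen V) :
    IsAffineOpen (chartOver n j V) := by
  have : IsAffine (chart.{u} n j).toScheme := isAffineOpen_chart n j
  have : IsAffine V.toScheme := hV
  let P := pullback ((chart.{u} n j).ι ≫ CohB1.ProjSpace.toSpec n (ULift.{u} ℤ))
    (V.ι ≫ specULiftZIsTerminal.from S)
  let m : P ⟶ CohB1.ProjSpaceOver n S :=
    pullback.map _ _ _ _ (chart.{u} n j).ι V.ι (𝟙 _) (by simp) (by simp)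
  have : IsOpenImmersion m := inferInstanceAs (IsOpenImmersion (pullback.map _ _ _ _ _ _ _ _ _))
  have hm : m.opensRange = chartOver n j V := by
    refine SetLike.coe_injective ?_
    change Set.range (pullback.map _ _ _ _ _ _ _ _ _ : P ⟶ CohB1.ProjSpaceOver n S).base = _
    erw [Scheme.Pullback.range_map, Scheme.Opens.range_ι, Scheme.Opens.range_ι]
    rfl
  exact hm ▸ isAffineOpen_opensRange m

/-- Surjectivity on functions gives a closed immersion between affine opens. -/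
lemma isClosedImmersion_restrict_of_surjective {P : Scheme.{u}} (i : X ⟶ P) (W : P.Opens)
    [IsAffine W.toScheme] [IsAffine (i ⁻¹ᵁ W).toScheme]
    (hs : Function.Surjective (ev i W (i ⁻¹ᵁ W) le_rfl)) : IsClosedImmersion (i ∣_ W) := by
  refine IsClosedImmersion.of_surjective_of_isAffine _ ?_
  have e : (i ∣_ W).appTop = W.topIso.hom ≫ i.appLE W (i ⁻¹ᵁ W) le_rfl ≫ (i ⁻¹ᵁ W).topIso.inv := by
    simp [Scheme.Hom.appLE, Scheme.Opens.topIso, morphismRestrict_app, ← Functor.map_comp]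
    rfl
  rw [e]
  exact (ConcreteCategory.bijective_of_isIso (i ⁻¹ᵁ W).topIso.inv).2.comp
    (hs.comp (ConcreteCategory.bijective_of_isIso W.topIso.hom).2)

/-- Immersion criterion: affine loci with enough coordinate functions. -/
theorem isImmersion_of_charts {n : ℕ} (i : X ⟶ CohB1.ProjSpaceOver n S)
    (h : ∀ x : X, ∃ (j : Fin (n + 1)) (V : S.Opens) (U : X.Opens) (h1 : U ≤ (i ≫ pz n S) ⁻¹ᵁ chart n j)
      (h2 : U ≤ (i ≫ CohB1.ProjSpaceOver.toBase n S) ⁻¹ᵁ V), x ∈ U ∧ IsAffineOpen V ∧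
      (i ≫ pz n S) ⁻¹ᵁ chart n j ⊓ (i ≫ CohB1.ProjSpaceOver.toBase n S) ⁻¹ᵁ V ≤ U ∧
      IsAffineOpen U ∧
      Subring.closure (Set.range (ev (i ≫ CohB1.ProjSpaceOver.toBase n S) V U h2) ∪
        Set.range fun k => ev (i ≫ pz n S) (chart n j) U h1 (ratio n j k)) = ⊤) :
    IsImmersion i := by
  refine isImmersion_of_forall i fun x => ?_
  obtain ⟨j, V, U, h1, h2, hxU, hV, hle, hU, hclo⟩ := h x
  have hpre : i ⁻¹ᵁ chartOver n j V = U := le_antisymm hle (le_inf h1 h2)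
  refine ⟨chartOver n j V, hpre.ge hxU, ?_⟩
  have : IsAffine (chartOver n j V).toScheme := isAffineOpen_chartOver n j hV
  have : IsAffine (i ⁻¹ᵁ chartOver n j V).toScheme := by rw [hpre]; exact hU
  suffices IsClosedImmersion (i ∣_ chartOver n j V) from inferInstance
  have hle' : U ≤ i ⁻¹ᵁ chartOver n j V := hpre.ge
  have hs : Function.Surjective (ev i (chartOver n j V) U hle') := by
    rw [← RingHom.range_eq_top, eq_top_iff, ← hclo, Subring.closure_le]
    rintro z (⟨a, rfl⟩ | ⟨k, rfl⟩)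
    · refine ⟨ev (CohB1.ProjSpaceOver.toBase n S) V (chartOver n j V) inf_le_right a, ?_⟩
      change ((Scheme.Hom.appLE _ V _ _) ≫ i.appLE _ U hle') a = _
      rw [Scheme.Hom.appLE_comp_appLE]
      rfl
    · refine ⟨ev (pz n S) (chart n j) (chartOver n j V) inf_le_left (ratio n j k), ?_⟩
      change ((Scheme.Hom.appLE _ (chart n j) _ _) ≫ i.appLE _ U hle') (ratio n j k) = _
      rw [Scheme.Hom.appLE_comp_appLE]
      rfl
  refine isClosedImmersion_restrict_of_surjective i _ ?_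
  subst hpre
  exact hs

end ProjMor
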