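import Groth.Agent.ProjMor.Sym
import Groth.Agent.TMul.AmpleBasis
import Mathlib.AlgebraicGeometry.ProjectiveSpectrum.Proper
import Mathlib.AlgebraicGeometry.Morphisms.QuasiFinite

/-!
The structure morphism of projective space: proper, surjective, an isomorphism in dimension zero.
-/

set_option autoImplicit false
set_option backward.isDefEq.respectTransparency false

universe u

open CategoryTheory CategoryTheory.Limits DirectSum TopologicalSpace AlgebraicGeometry Opposite
open Groth.Agent.QC (res resO)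

noncomputable section

namespace ProjMor

variable (n : ℕ) (R : Type u) [CommRing R]

lemma algebraMap_zero_bijective :
    Function.Bijective (algebraMap R (CohB1.polyGrading n R 0)) := by
  constructor
  · intro a b h
    exact MvPolynomial.C_injective _ R (congrArg Subtype.val h)
  · rintro ⟨p, hp⟩
    refine ⟨p.coeff 0, Subtype.ext ?_⟩
    change MvPolynomial.C (p.coeff 0) = p
    rw [CohB1.polyGrading, MvPolynomial.homogeneousSubmodule_zero] at hp
    obtain ⟨c, rfl⟩ := Submodule.mem_one.mp hp
    rw [MvPolynomial.algebraMap_eq, MvPolynomial.coeff_C, if_pos rfl]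

/-- `P^n_R` is proper over `R`. -/
theorem isProper_toSpec : IsProper (CohB1.ProjSpace.toSpec n R) := by
  let e := RingEquiv.ofBijective _ (algebraMap_zero_bijective n R)
  have : IsIso (CommRingCat.ofHom (algebraMap R (CohB1.polyGrading n R 0))) :=
    e.toCommRingCatIso.isIso_hom
  have : IsScalarTower R (CohB1.polyGrading n R 0) (MvPolynomial (Fin (n + 1)) R) :=
    IsScalarTower.of_algebraMap_eq (R := R) (S := CohB1.polyGrading n R 0)
      (A := MvPolynomial (Fin (n + 1)) R) fun _ => rfl
  have : Algebra.FiniteType (CohB1.polyGrading n R 0) (MvPolynomial (Fin (n + 1)) R) :=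
    Algebra.FiniteType.of_restrictScalars_finiteType R _ _
  exact inferInstanceAs (IsProper (Proj.toSpecZero _ ≫ Spec.map _))

/-- Any `R`-scheme with a nowhere vanishing tuple maps to `P^n_R`. -/
theorem exists_lift {X : Scheme.{u}} (q : X ⟶ Spec (CommRingCat.of R)) :
    ∃ r : X ⟶ CohB1.ProjSpace n R, r ≫ CohB1.ProjSpace.toSpec n R = q := by
  obtain ⟨r, hr, -⟩ := exists_projSpace (n := n) q (TMul.isInvertible_structureModule (X := X))
    (fun _ => ((1 : Γ(X, ⊤)) : ProjUP.Γm (Coh.structureModule X))) (fun x => by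
      refine eq_top_iff.mpr fun z _ => ?_
      obtain ⟨U, hxU, s, rfl⟩ := TopCat.Presheaf.exists_germ_eq (C := Ab.{u}) (Coh.structureModule X).presheaf z
      have e : gs (Coh.structureModule X) hxU (s : Γ(X, U)) = X.presheaf.germ U x hxU (s : Γ(X, U)) •
          gs (Coh.structureModule X) hxU (1 : Γ(X, U)) := by
        rw [← gs_smul]
        exact congrArg _ (mul_one (M := Γ(X, U)) s).symm
      have e1 : gs (Coh.structureModule X) (show x ∈ (⊤ : X.Opens) from trivial) (1 : Γ(X, ⊤)) =
          gs (Coh.structureModule X) hxU (1 : Γ(X, U)) := by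
        refine (gs_res (L := Coh.structureModule X) (le_top : U ≤ ⊤) hxU _).symm.trans (congrArg _ ?_)
        exact map_one (X.presheaf.map (homOfLE (le_top : U ≤ ⊤)).op).hom
      change gs (Coh.structureModule X) hxU (s : Γ(X, U)) ∈ _
      rw [e, ← e1]
      exact Submodule.smul_mem _ _ (Submodule.subset_span ⟨0, rfl⟩))
  exact ⟨r, hr⟩

/-- `P^n_S ⟶ S` is surjective. -/
theorem surjective_toBase (S : Scheme.{u}) : Surjective (CohB1.ProjSpaceOver.toBase n S) := by
  obtain ⟨r, hr⟩ := exists_lift n (ULift.{u} ℤ) (specULiftZIsTerminal.from S)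
  refine ⟨fun s => ?_⟩
  refine ⟨(pullback.lift r (𝟙 S) (by rw [hr, Category.id_comp]) : S ⟶ CohB1.ProjSpaceOver n S).base s, ?_⟩
  change ((pullback.lift r (𝟙 S) _ : S ⟶ CohB1.ProjSpaceOver n S) ≫ pullback.snd _ _).base s = s
  rw [pullback.lift_snd]
  rfl

/-- A single chart. -/
theorem basicOpen_X_eq_top : Proj.basicOpen (CohB1.polyGrading 0 R) (MvPolynomial.X 0) = ⊤ := by
  refine top_le_iff.mp fun x _ => (ProjectiveSpectrum.mem_basicOpen _ _ x).mpr fun h => ?_
  obtain ⟨g, hg, hgx⟩ := exists_notMem (genDegOne_projSpace 0 R) x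
  obtain ⟨c, rfl⟩ := exists_of_mem_one (linForms_mem 0 R) (adjoin_linForms 0 R) hg
  refine hgx ?_
  rw [linForms, Fintype.linearCombination_apply]
  refine Submodule.sum_mem _ fun i _ => ?_
  obtain rfl : i = 0 := Fin.eq_zero i
  rw [Algebra.smul_def]
  exact Ideal.mul_mem_left _ _ h

/-- `P^0_R = Spec R`. -/
theorem isIso_toSpec_zero : IsIso (CohB1.ProjSpace.toSpec 0 R) := by
  let g : MvPolynomial (Fin 1) R := MvPolynomial.X 0
  have hg : g ∈ CohB1.polyGrading 0 R 1 := MvPolynomial.isHomogeneous_X R 0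
  have htop := basicOpen_X_eq_top R
  have : IsAffine (CohB1.ProjSpace 0 R) := by
    have h := ProjLib.isAffineOpen_basicOpen (CohB1.polyGrading 0 R) hg one_pos
    rw [htop] at h
    have : IsAffine ((⊤ : (Proj (CohB1.polyGrading 0 R)).Opens) : Scheme.{u}) := h
    exact IsAffine.of_isIso (Scheme.topIso (Proj (CohB1.polyGrading 0 R))).inv
  obtain ⟨r, hr⟩ := exists_lift 0 R (𝟙 (Spec (CommRingCat.of R)))
  refine ⟨r, ?_, hr⟩
  refine ext_of_isAffine ?_
  have hsurj : ∀ z : Γ(CohB1.ProjSpace 0 R, ⊤), ∃ c, ProjUP.toGlobal (base (CohB1.polyGrading 0 R)) c = z := by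
    intro z
    obtain ⟨a, ha⟩ := exists_deh_eq (𝒜 := CohB1.polyGrading 0 R) hg (resO _ le_top z)
    refine ⟨MvPolynomial.eval (fun _ => (1 : R)) a, ?_⟩
    have h1 : resO (Proj (CohB1.polyGrading 0 R)) (le_top : Proj.basicOpen _ g ≤ ⊤)
        (ProjUP.toGlobal (base (CohB1.polyGrading 0 R)) (MvPolynomial.eval (fun _ => (1 : R)) a)) =
        GrT.deh _ hg a := by
      rw [res_toGlobal_base _ hg]
      have : ((GrT.deh (CohB1.polyGrading 0 R) hg).comp (algebraMap R _)).comp
          (MvPolynomial.eval fun _ => (1 : R)) = GrT.deh (CohB1.polyGrading 0 R) hg := by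
        refine MvPolynomial.ringHom_ext (fun c => ?_) fun i => ?_
        · simp [MvPolynomial.algebraMap_eq]
        · obtain rfl : i = 0 := Fin.eq_zero i
          simp [g, GrT.deh_self]
      exact RingHom.congr_fun this a
    refine funcs_eq_of_locally fun x => ⟨Proj.basicOpen _ g, htop.ge trivial, h1.trans ha⟩
  rw [Scheme.Hom.comp_appTop, Scheme.Hom.id_appTop]
  ext z
  obtain ⟨c, rfl⟩ := hsurj z
  change (CohB1.ProjSpace.toSpec 0 R).appTop (r.appTop _) = _
  rw [show r.appTop (ProjUP.toGlobal (base (CohB1.polyGrading 0 R)) c) =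
    ProjUP.toGlobal (r ≫ CohB1.ProjSpace.toSpec 0 R) c from (toGlobal_comp _ r c).symm, hr]
  simp [ProjUP.toGlobal]
  rfl

open Polynomial in
/-- The projective line over a field is not affine. -/
theorem not_isAffine_projLine (k : Type u) [Field k] : ¬ IsAffine (CohB1.ProjSpace 1 k) := by
  intro hP
  have := isProper_toSpec 1 k
  have hfin : IsFinite (CohB1.ProjSpace.toSpec 1 k) :=
    IsFinite.iff_isProper_and_isAffineHom.mpr ⟨inferInstance, inferInstance⟩
  have : Finite (CohB1.ProjSpace 1 k) := by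
    have h := (CohB1.ProjSpace.toSpec 1 k).finite_preimage (s := Set.univ) Set.finite_univ
    exact Set.finite_univ_iff.mp (by simpa using h)
  let g : MvPolynomial (Fin 2) k := MvPolynomial.X 0
  have hg : g ∈ CohB1.polyGrading 1 k 1 := MvPolynomial.isHomogeneous_X k 0
  let φ : MvPolynomial (Fin 2) k →+* k[X] := MvPolynomial.eval₂Hom Polynomial.C ![1, Polynomial.X]
  have hφ : φ g = 1 := by simp [φ, g]
  have hsurj : Function.Surjective (chartHom hg φ hφ) := fun p => by
    refine ⟨GrT.deh _ hg (Polynomial.eval₂ MvPolynomial.C (MvPolynomial.X 1) p), ?_⟩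
    rw [chartHom_deh]
    induction p using Polynomial.induction_on' with
    | add p q hp hq => rw [Polynomial.eval₂_add, map_add, hp, hq]
    | monomial m c => simp [φ, Polynomial.C_mul_X_pow_eq_monomial]
  have hD := ProjLib.isAffineOpen_basicOpen (CohB1.polyGrading 1 k) hg one_pos
  have hcl : IsClosedImmersion (Spec.map (CommRingCat.ofHom (chartHom hg φ hφ))) :=
    IsClosedImmersion.spec_of_surjective _ hsurj
  have hinj : Function.Injective (Spec.map (CommRingCat.ofHom (chartHom hg φ hφ)) ≫ hD.fromSpec).base :=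
    hD.fromSpec.isOpenEmbedding.injective.comp (Scheme.Hom.isClosedEmbedding _).injective
  haveI : Finite (Proj (CohB1.polyGrading 1 k)) := ‹Finite (CohB1.ProjSpace 1 k)›
  have : Finite (PrimeSpectrum k[X]) := Finite.of_injective _ hinj
  have hdisc : DiscreteTopology (PrimeSpectrum k[X]) := inferInstance
  have hmax := ((PrimeSpectrum.discreteTopology_iff_finite_and_krullDimLE_zero).mp hdisc).2
  have : IsField k[X] := Ring.KrullDimLE.isField_of_isDomain
  exact Polynomial.not_isField k this

end ProjMor
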