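import Groth.Agent.ProjMor.Morph
import Groth.Prelude.Def_ProjUP

/-!
The structure morphism of `Proj` on the charts.
-/

set_option autoImplicit false
set_option backward.isDefEq.respectTransparency false

universe u

open CategoryTheory DirectSum TopologicalSpace AlgebraicGeometry Opposite HomogeneousLocalization
open Groth.Agent.QC (resO resO_resO)

noncomputable section

namespace ProjMor

variable {R A : Type u} [CommRing R] [CommRing A] [Algebra R A] (𝒜 : ℕ → Submodule R A)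
  [GradedAlgebra 𝒜]

/-- `Proj A ⟶ Spec R`. -/
def base : Proj 𝒜 ⟶ Spec (CommRingCat.of R) :=
  Proj.toSpecZero 𝒜 ≫ Spec.map (CommRingCat.ofHom (algebraMap R (𝒜 0)))

lemma deh_algebraMap {g : A} (hg : g ∈ 𝒜 1) (c : R) :
    GrT.deh 𝒜 hg (algebraMap R A c) =
      (Proj.awayToSection 𝒜 g).hom (fromZeroRingHom 𝒜 _ (algebraMap R (𝒜 0) c)) := by
  rw [GrT.deh_of_mem 𝒜 hg (SetLike.algebraMap_mem_graded 𝒜 c), GrT.away]
  refine congrArg _ (val_injective _ ?_)
  rw [Away.val_mk]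
  change _ = Localization.mk (algebraMap R A c) _
  congr 1
  exact Subtype.ext (pow_zero g)

/-- Constants on a chart. -/
lemma res_toGlobal_base {g : A} (hg : g ∈ 𝒜 1) (c : R) :
    resO (Proj 𝒜) le_top (ProjUP.toGlobal (base 𝒜) c) = GrT.deh 𝒜 hg (algebraMap R A c) := by
  have hι : (Proj.basicOpen 𝒜 g).ι ≫ base 𝒜 =
      Proj.basicOpenToSpec 𝒜 g ≫ Spec.map (CommRingCat.ofHom
        ((fromZeroRingHom 𝒜 (Submonoid.powers g)).comp (algebraMap R (𝒜 0)))) := by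
    have h := Proj.awayι_toSpecZero 𝒜 g hg one_pos
    rw [Proj.awayι, Category.assoc, Iso.inv_comp_eq, Proj.basicOpenIsoSpec_hom] at h
    rw [base, ← Category.assoc, h, Category.assoc, ← Spec.map_comp]
    rfl
  have h2 : (ProjUP.toGlobal ((Proj.basicOpen 𝒜 g).ι ≫ base 𝒜)) c =
      (Proj.basicOpen 𝒜 g).topIso.inv (GrT.deh 𝒜 hg (algebraMap R A c)) := by
    rw [hι, deh_algebraMap, ProjUP.toGlobal]
    simp only [Scheme.Hom.comp_appTop]
    have e : (Proj.basicOpenToSpec 𝒜 g).appTop = _ := Proj.basicOpenToSpec_app_top 𝒜 g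
    rw [e]
    simp
  have h3 : (Proj.basicOpen 𝒜 g).topIso.inv (resO (Proj 𝒜) le_top (ProjUP.toGlobal (base 𝒜) c)) =
      (Proj.basicOpen 𝒜 g).topIso.inv (GrT.deh 𝒜 hg (algebraMap R A c)) := by
    rw [← h2]
    simp [ProjUP.toGlobal, Scheme.Opens.topIso, resO]
    rfl
  exact (ConcreteCategory.bijective_of_isIso _).1 h3

lemma toGlobal_comp {X : Scheme.{u}} (r : X ⟶ Proj 𝒜) (c : R) :
    ProjUP.toGlobal (r ≫ base 𝒜) c = r.appTop (ProjUP.toGlobal (base 𝒜) c) := by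
  simp [ProjUP.toGlobal]

/-- Constants pulled back. -/
lemma ev_deh_algebraMap {X : Scheme.{u}} (r : X ⟶ Proj 𝒜) {q : X ⟶ Spec (CommRingCat.of R)}
    (hq : r ≫ base 𝒜 = q) {g : A} (hg : g ∈ 𝒜 1) {V : X.Opens} (h : V ≤ r ⁻¹ᵁ Proj.basicOpen 𝒜 g)
    (c : R) :
    ev r _ V h (GrT.deh 𝒜 hg (algebraMap R A c)) = resO X le_top (ProjUP.toGlobal q c) := by
  rw [← hq, toGlobal_comp, ← res_toGlobal_base 𝒜 hg c, ev_resO, ← ev_res r (le_refl ⊤) le_top]
  refine congrArg (resO X le_top) ?_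
  refine congrArg (fun m => (CommRingCat.Hom.hom m) (ProjUP.toGlobal (base 𝒜) c)) ?_
  exact Scheme.Hom.appLE_eq_app r

lemma ext_toSpec {X : Scheme.{u}} {q q' : X ⟶ Spec (CommRingCat.of R)}
    (h : ∀ c, ProjUP.toGlobal q c = ProjUP.toGlobal q' c) : q = q' := by
  refine ext_of_isAffine ?_
  have h' : (Scheme.ΓSpecIso (CommRingCat.of R)).inv ≫ q.appTop =
      (Scheme.ΓSpecIso (CommRingCat.of R)).inv ≫ q'.appTop := CommRingCat.hom_ext (RingHom.ext h)
  exact (cancel_epi _).mp h'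

end ProjMor
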