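import Groth.Agent.TMul.Ample
import Groth.Agent.TMul.AmpleBasis
import Groth.Prelude.Def_ProjUP

/-!
Generating sections of an invertible module and their generating loci.
-/

set_option autoImplicit false
set_option backward.isDefEq.respectTransparency false

universe u

open CategoryTheory CategoryTheory.Limits TopologicalSpace AlgebraicGeometry Opposite
open Groth.Agent.QC (res resO res_res res_smul resO_resO app_res)

noncomputable section

namespace ProjMor

variable {X : Scheme.{u}} {L : X.Modules}

/-- Germ of a section in the stalk of the underlying presheaf. -/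
def gs (L : X.Modules) {U : X.Opens} {x : X} (hx : x ∈ U) : Γ(L, U) →+ L.presheaf.stalk x :=
  (L.presheaf.germ U x hx).hom

lemma gs_res {U V : X.Opens} {x : X} (h : V ≤ U) (hx : x ∈ V) (s : Γ(L, U)) :
    gs L hx (res L h s) = gs L (h hx) s :=
  TopCat.Presheaf.germ_res_apply L.presheaf (homOfLE h) x hx s

lemma gs_smul {U : X.Opens} {x : X} (hx : x ∈ U) (c : Γ(X, U)) (s : Γ(L, U)) :
    gs L hx (c • s) = X.presheaf.germ U x hx c • gs L hx s :=
  PresheafOfModules.germ_smul (R := X.presheaf)
    (show PresheafOfModules (X.presheaf ⋙ forget₂ CommRingCat RingCat) from L.val) x U hx c s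

/-- Generating global sections: at every point one of them generates. -/
theorem exists_mem_genLocus {ι : Type*} (hL : PicF.IsInvertible L) (s : ι → ProjUP.Γm L)
    (hs : ProjUP.GeneratedBy L s) (x : X) :
    ∃ i, x ∈ CohB1.genLocus L (TMul.homOf (s i)) := by
  by_contra hn
  push Not at hn
  obtain ⟨U, e, hx, he⟩ := TMul.exists_isGen hL x
  have hspan : ∀ i, ∃ a ∈ IsLocalRing.maximalIdeal (X.presheaf.stalk x),
      gs L (show x ∈ (⊤ : X.Opens) from trivial) (s i) = a • gs L hx e := fun i => by
    obtain ⟨c, hc⟩ := (he U le_rfl).2 (res L le_top (s i))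
    simp only [Groth.Agent.QC.res_self] at hc
    refine ⟨X.presheaf.germ U x hx c, ?_, ?_⟩
    · exact fun hu => hn i ((TMul.mem_genLocus_iff_isUnit _ he
        ((TMul.val_homOf _ _).trans hc.symm) hx).mpr hu)
    · rw [← gs_smul, hc, gs_res]
  have hmem : gs L hx e ∈ Submodule.span (X.presheaf.stalk x) (Set.range fun i => gs L (show x ∈ (⊤ : X.Opens) from trivial) (s i)) := by
    have := hs x
    exact this.symm ▸ trivial
  obtain ⟨a, ha, hae⟩ : ∃ a ∈ IsLocalRing.maximalIdeal (X.presheaf.stalk x),
      gs L hx e = a • gs L hx e := by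
    suffices ∀ z ∈ Submodule.span (X.presheaf.stalk x) (Set.range fun i => gs L (show x ∈ (⊤ : X.Opens) from trivial) (s i)),
        ∃ a ∈ IsLocalRing.maximalIdeal (X.presheaf.stalk x), z = a • gs L hx e from this _ hmem
    intro z hz
    induction hz using Submodule.span_induction with
    | mem z hz => obtain ⟨i, rfl⟩ := hz; exact hspan i
    | zero => exact ⟨0, Submodule.zero_mem _, (zero_smul _ _).symm⟩
    | add a b _ _ ha hb =>
      obtain ⟨c, hc, rfl⟩ := ha
      obtain ⟨d, hd, rfl⟩ := hb
      exact ⟨c + d, Ideal.add_mem _ hc hd, (add_smul _ _ _).symm⟩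
    | smul r a _ ha =>
      obtain ⟨c, hc, rfl⟩ := ha
      exact ⟨r * c, Ideal.mul_mem_left _ _ hc, (mul_smul _ _ _).symm⟩
  have h0 : gs L hx e = 0 := by
    refine (IsLocalRing.isUnit_one_sub_self_of_mem_nonunits a ha).smul_eq_zero.mp ?_
    rw [sub_smul, one_smul, ← hae, sub_self]
  obtain ⟨W, hxW, i, j, hW⟩ := TopCat.Presheaf.germ_eq L.presheaf x hx hx e 0
    (h0.trans (map_zero (gs L hx)).symm)
  have hWe : res L (leOfHom i) e = 0 := hW.trans (map_zero _)
  have h10 : (1 : Γ(X, W)) = 0 := (he W (leOfHom i)).1 (by simp only [hWe, smul_zero])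
  have := congrArg (X.presheaf.germ W x hxW) h10
  rw [map_one, map_zero] at this
  exact one_ne_zero this

end ProjMor
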