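import Groth.Agent.TMul.Ample

/-!
Isomorphisms of invertible modules from matching generators.
-/

set_option autoImplicit false
set_option backward.isDefEq.respectTransparency false

universe u

open CategoryTheory CategoryTheory.Limits TopologicalSpace AlgebraicGeometry Opposite
open Groth.Agent.QC (res resO res_res res_smul resO_resO app_res)

noncomputable section

namespace TMul

variable {X : Scheme.{u}} {M N : X.Modules} {ι : Type u}

/-- Compatible generators. -/
structure GenPair (M N : X.Modules) (ι : Type u) where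
  /-- The cover. -/
  U : ι → X.Opens
  cover : ∀ x : X, ∃ i, x ∈ U i
  /-- The generators of `M`. -/
  e : ι → Γ(M, ⊤)
  /-- The generators of `N`. -/
  f : ι → Γ(N, ⊤)
  he : ∀ i, IsGen (res M (le_top : U i ≤ ⊤) (e i))
  hf : ∀ i, IsGen (res N (le_top : U i ≤ ⊤) (f i))
  hc : ∀ i j, ∃ c : Γ(X, U i ⊓ U j),
    res M (le_top : U i ⊓ U j ≤ ⊤) (e j) = c • res M (le_top : U i ⊓ U j ≤ ⊤) (e i) ∧
      res N (le_top : U i ⊓ U j ≤ ⊤) (f j) = c • res N (le_top : U i ⊓ U j ≤ ⊤) (f i)

namespace GenPair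

variable (P : GenPair M N ι)

/-- The sections correspond. -/
def Rel (V : X.Opens) (t : Γ(M, V)) (t' : Γ(N, V)) : Prop :=
  ∀ (W : X.Opens) (hW : W ≤ V) (i : ι), W ≤ P.U i →
    ∀ c : Γ(X, W), res M hW t = c • res M le_top (P.e i) → res N hW t' = c • res N le_top (P.f i)

lemma gen_bij (i : ι) {W : X.Opens} (h : W ≤ P.U i) :
    Function.Bijective fun c : Γ(X, W) => c • res M (le_top : W ≤ ⊤) (P.e i) := by
  have := P.he i W h
  simpa only [res_res] using this

lemma existsUnique_rel (V : X.Opens) (t : Γ(M, V)) : ∃! t' : Γ(N, V), P.Rel V t t' := by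
  choose k hk using P.cover
  choose c hc using fun x : V => (P.gen_bij (k x) (inf_le_right : V ⊓ P.U (k x) ≤ _)).2
    (res M (inf_le_left : V ⊓ P.U (k x) ≤ V) t)
  simp only at hc
  obtain ⟨(t' : Γ(N, V)), ht', huniq⟩ := TopCat.Sheaf.existsUnique_gluing' (Groth.Agent.QC.abSheaf N)
    (fun x : V => V ⊓ P.U (k x)) V
    (fun x => homOfLE inf_le_left)
    (fun x hx => Opens.mem_iSup.mpr ⟨⟨x, hx⟩, hx, hk x⟩)
    (fun x => c x • res N le_top (P.f (k x))) (fun x y => by
      have key : ∀ (W' : X.Opens) (h1 : W' ≤ V ⊓ P.U (k x)) (h2 : W' ≤ V ⊓ P.U (k y)),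
          res N h1 (c x • res N le_top (P.f (k x))) = res N h2 (c y • res N le_top (P.f (k y))) := by
        intro W' h1 h2
        obtain ⟨d, hd, hd'⟩ := P.hc (k x) (k y)
        have h3 : W' ≤ P.U (k x) ⊓ P.U (k y) := le_inf (h1.trans inf_le_right) (h2.trans inf_le_right)
        have e1 := congrArg (res M h3) hd
        have e2 := congrArg (res N h3) hd'
        simp only [res_smul, res_res] at e1 e2
        have a1 := congrArg (res M h1) (hc x)
        have a2 := congrArg (res M h2) (hc y)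
        simp only [res_smul, res_res] at a1 a2
        simp only [res_smul, res_res]
        rw [e2, smul_smul]
        refine congrArg (fun z : Γ(X, W') => z • res N le_top (P.f (k x))) ?_
        refine (P.gen_bij (k x) (h1.trans inf_le_right)).1 ?_
        change _ • res M le_top (P.e (k x)) = _ • res M le_top (P.e (k x))
        rw [a1, ← smul_smul, ← e1, a2]
      exact key _ inf_le_left inf_le_right)
  refine ⟨t', fun Z hZ i hi d hd => ?_, fun s hs => huniq s fun x => ?_⟩
  · refine Groth.Agent.QC.section_eq_of_locally fun x hx => ?_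
    refine ⟨Z ⊓ P.U (k x), inf_le_left, ⟨hx, hk x⟩, ?_⟩
    have h1 : Z ⊓ P.U (k x) ≤ V ⊓ P.U (k x) := inf_le_inf_right _ hZ
    have b : res N (inf_le_left : V ⊓ P.U (k x) ≤ V) t' = c ⟨x, hZ hx⟩ • res N le_top (P.f (k x)) := ht' ⟨x, hZ hx⟩
    have b' := congrArg (res N h1) b
    obtain ⟨e, he, he'⟩ := P.hc (k x) i
    have h3 : Z ⊓ P.U (k x) ≤ P.U (k x) ⊓ P.U i := le_inf inf_le_right (inf_le_left.trans hi)
    have e1 := congrArg (res M h3) he
    have e2 := congrArg (res N h3) he'
    have a1 := congrArg (res M h1) (hc ⟨x, hZ hx⟩)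
    have a2 := congrArg (res M (inf_le_left : Z ⊓ P.U (k x) ≤ Z)) hd
    simp only [res_smul, res_res] at e1 e2 a1 a2 b' ⊢
    rw [b', e2, smul_smul]
    refine congrArg (fun z : Γ(X, Z ⊓ P.U (k x)) => z • res N le_top (P.f (k x))) ?_
    refine (P.gen_bij (k x) inf_le_right).1 ?_
    change _ • res M le_top (P.e (k x)) = _ • res M le_top (P.e (k x))
    rw [a1, a2, e1, smul_smul]
  · exact hs _ inf_le_left (k x) inf_le_right (c x) (hc x).symm

/-- The map on sections. -/
def fn (V : X.Opens) (t : Γ(M, V)) : Γ(N, V) := (P.existsUnique_rel V t).exists.choose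

lemma rel_fn (V : X.Opens) (t : Γ(M, V)) : P.Rel V t (P.fn V t) :=
  (P.existsUnique_rel V t).exists.choose_spec

lemma eq_fn {V : X.Opens} {t : Γ(M, V)} {t' : Γ(N, V)} (h : P.Rel V t t') : t' = P.fn V t :=
  (P.existsUnique_rel V t).unique h (P.rel_fn V t)

lemma fn_add (V : X.Opens) (s t : Γ(M, V)) : P.fn V (s + t) = P.fn V s + P.fn V t := by
  refine (P.eq_fn fun W hW i hi c hc => ?_).symm
  obtain ⟨a, ha⟩ := (P.gen_bij i hi).2 (res M hW s)
  obtain ⟨b, hb⟩ := (P.gen_bij i hi).2 (res M hW t)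
  simp only at ha hb
  rw [map_add, P.rel_fn V s W hW i hi a ha.symm, P.rel_fn V t W hW i hi b hb.symm, ← add_smul]
  rw [map_add, ← ha, ← hb, ← add_smul] at hc
  exact congrArg (fun z : Γ(X, W) => z • res N le_top (P.f i)) ((P.gen_bij i hi).1 hc)

lemma fn_smul (V : X.Opens) (r : Γ(X, V)) (t : Γ(M, V)) : P.fn V (r • t) = r • P.fn V t := by
  refine (P.eq_fn fun W hW i hi c hc => ?_).symm
  obtain ⟨a, ha⟩ := (P.gen_bij i hi).2 (res M hW t)
  simp only at ha
  rw [res_smul, P.rel_fn V t W hW i hi a ha.symm, smul_smul]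
  rw [res_smul, ← ha, smul_smul] at hc
  exact congrArg (fun z : Γ(X, W) => z • res N le_top (P.f i)) ((P.gen_bij i hi).1 hc)

lemma fn_res {V' V : X.Opens} (h : V' ≤ V) (t : Γ(M, V)) : res N h (P.fn V t) = P.fn V' (res M h t) := by
  refine P.eq_fn fun W hW i hi c hc => ?_
  rw [res_res] at hc ⊢
  exact P.rel_fn V t W (hW.trans h) i hi c hc

/-- The morphism. -/
def hom : M ⟶ N :=
  ⟨PresheafOfModules.homMk
    { app := fun V => AddCommGrpCat.ofHom (AddMonoidHom.mk' (P.fn V.unop) (P.fn_add V.unop))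
      naturality := fun V V' h => by
        ext (t : Γ(M, V.unop))
        exact (P.fn_res (leOfHom h.unop) t).symm }
    fun V r t => P.fn_smul V.unop r t⟩

lemma hom_app (V : X.Opens) (t : Γ(M, V)) : P.hom.app V t = P.fn V t := rfl

/-- Symmetry. -/
def symm : GenPair N M ι where
  U := P.U
  cover := P.cover
  e := P.f
  f := P.e
  he := P.hf
  hf := P.he
  hc i j := by obtain ⟨c, h1, h2⟩ := P.hc i j; exact ⟨c, h2, h1⟩

lemma fn_symm (V : X.Opens) (t : Γ(M, V)) : P.symm.fn V (P.fn V t) = t := by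
  refine (P.symm.eq_fn fun W hW i hi c hc => ?_).symm
  obtain ⟨a, ha⟩ := (P.gen_bij i hi).2 (res M hW t)
  simp only at ha
  have e := P.rel_fn V t W hW i hi a ha.symm
  rw [← ha]
  refine congrArg (fun z : Γ(X, W) => z • res M le_top (P.e i)) ?_
  exact (P.symm.gen_bij i hi).1 (e.symm.trans hc)

/-- The isomorphism matching the generators. -/
def iso : M ≅ N where
  hom := P.hom
  inv := P.symm.hom
  hom_inv_id := Scheme.Modules.hom_ext _ _ fun V => by
    ext t
    exact P.fn_symm V t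
  inv_hom_id := Scheme.Modules.hom_ext _ _ fun V => by
    ext t
    exact P.symm.fn_symm V t

/-- A pair of sections with matching coefficients correspond. -/
lemma iso_app_eq {a : Γ(M, ⊤)} {b : Γ(N, ⊤)}
    (h : ∀ i, ∃ c : Γ(X, P.U i),
      res M (le_top : P.U i ≤ ⊤) a = c • res M (le_top : P.U i ≤ ⊤) (P.e i) ∧
      res N (le_top : P.U i ≤ ⊤) b = c • res N (le_top : P.U i ≤ ⊤) (P.f i)) :
    P.iso.hom.app ⊤ a = b := by
  refine (P.eq_fn fun W hW i hi c hc => ?_).symm
  obtain ⟨d, hd, hd'⟩ := h i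
  have e1 := congrArg (res M hi) hd
  have e2 := congrArg (res N hi) hd'
  simp only [res_smul, res_res] at e1 e2
  rw [hc] at e1
  rw [e2, (P.gen_bij i hi).1 e1]

end GenPair

end TMul
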