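import Groth.Agent.ProjMor.PullSec
import Groth.Agent.ProjMor.IsoOfGens
import Groth.Agent.ProjMor.Base
import Groth.Agent.ProjMor.Generated

/-!
Morphisms to `Proj` of an algebra generated in degree one from sections of an invertible module.
-/

set_option autoImplicit false
set_option backward.isDefEq.respectTransparency false

universe u

open CategoryTheory CategoryTheory.Limits DirectSum TopologicalSpace AlgebraicGeometry Opposite
open Groth.Agent.QC (res resO res_res res_smul resO_resO app_res)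
open TMul (IsGen val homOf val_homOf)

noncomputable section

namespace ProjMor

variable {R A : Type u} [CommRing R] [CommRing A] [Algebra R A] {𝒜 : ℕ → Submodule R A}
  [GradedAlgebra 𝒜] {X : Scheme.{u}} {L : X.Modules}

lemma isGen_homOf (t : Γ(L, ⊤)) :
    IsGen (res L (le_top : CohB1.genLocus L (homOf t) ≤ ⊤) t) := by
  have := TMul.isGen_genLocus (homOf t)
  rwa [val_homOf] at this

lemma homOf_app {M : X.Modules} (φ : L ⟶ M) (t : Γ(L, ⊤)) :
    homOf (L := M) (φ.app ⊤ t) = homOf t ≫ φ := by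
  refine TMul.hom_ext_val ?_
  rw [TMul.val_comp, val_homOf, val_homOf, Groth.Agent.QC.res_self, Groth.Agent.QC.res_self]

lemma funcs_eq_of_locally {s t : Γ(X, ⊤)}
    (h : ∀ x : X, ∃ W : X.Opens, x ∈ W ∧ resO X (le_top : W ≤ ⊤) s = resO X (le_top : W ≤ ⊤) t) :
    s = t :=
  TopCat.Presheaf.IsSheaf.section_ext X.sheaf.property fun x _ =>
    let ⟨W, hxW, e⟩ := h x
    ⟨W, le_top, hxW, e⟩

theorem exists_morphism_aux (hA : GenDegOne 𝒜) (q : X ⟶ Spec (CommRingCat.of R))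
    (v : ∀ a : A, a ∈ 𝒜 1 → Γ(L, ⊤)) (U : {g : A // g ∈ 𝒜 1} → X.Opens)
    (hU : ∀ g : {g : A // g ∈ 𝒜 1}, CohB1.genLocus L (homOf (v g.1 g.2)) = U g)
    (hgen : ∀ g : {g : A // g ∈ 𝒜 1}, IsGen (res L (le_top : U g ≤ ⊤) (v g.1 g.2)))
    (hcov' : ∀ x, ∃ g : {g : A // g ∈ 𝒜 1}, x ∈ U g)
    (φ : ∀ g : {g : A // g ∈ 𝒜 1}, A →+* Γ(X, U g))
    (h0 : ∀ g c, φ g (algebraMap R A c) = resO X le_top (ProjUP.toGlobal q c))
    (h1 : ∀ g (a : A) (ha : a ∈ 𝒜 1), φ g a • res L (le_top : U g ≤ ⊤) (v g.1 g.2) =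
      res L (le_top : U g ≤ ⊤) (v a ha)) :
    ∃ (r : X ⟶ Proj 𝒜) (_ : r ≫ base 𝒜 = q)
      (τ : (Scheme.Modules.pullback r).obj (Twist.twist 𝒜 1) ≅ L),
      ∀ (a : A) (ha : a ∈ 𝒜 1), τ.hom.app ⊤ (pull1 r ha) = v a ha := by
  have hinj : ∀ (g : {g : A // g ∈ 𝒜 1}) {W : X.Opens} (_ : W ≤ U g),
      Function.Injective fun c : Γ(X, W) => c • res L (le_top : W ≤ ⊤) (v g.1 g.2) := fun g W hW => by
    have := (hgen g W hW).1
    simpa only [res_res] using this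
  have hone : ∀ g : {g : A // g ∈ 𝒜 1}, φ g g.1 = 1 := fun g => hinj g le_rfl <| by
    change φ g g.1 • res L le_top (v g.1 g.2) = (1 : Γ(X, U g)) • res L le_top (v g.1 g.2)
    rw [h1 g g.1 g.2, one_smul]
  let C : {g : A // g ∈ 𝒜 1} → Chart X 𝒜 := fun g => ⟨U g, g.1, g.2, φ g, hone g⟩
  have hC : ∀ g g', (C g).Compat (C g') := fun g g' => by
    refine ⟨?_, fun c => ?_, fun a ha => ?_⟩
    · have e := TMul.genLocus_inf (homOf (v g'.1 g'.2)) (hgen g) (c := φ g g'.1)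
        (by rw [val_homOf, h1 g g'.1 g'.2])
      rw [hU g'] at e
      exact e.le
    · change resO X _ (φ g _) = resO X _ (φ g' _)
      rw [h0, h0, resO_resO, resO_resO]
    · change resO X _ (φ g a) = resO X _ (φ g g'.1) * resO X _ (φ g' a)
      have e1 := congrArg (res L (inf_le_left : U g ⊓ U g' ≤ U g)) (h1 g a ha)
      have e2 := congrArg (res L (inf_le_right : U g ⊓ U g' ≤ U g')) (h1 g' a ha)
      have e3 := congrArg (res L (inf_le_left : U g ⊓ U g' ≤ U g)) (h1 g g'.1 g'.2)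
      simp only [res_smul, res_res] at e1 e2 e3
      refine hinj g (inf_le_left : U g ⊓ U g' ≤ U g) ?_
      change _ • res L le_top (v g.1 g.2) = _ • res L le_top (v g.1 g.2)
      rw [e1, ← e2, mul_comm, mul_smul, e3]
  obtain ⟨r, hr⟩ := exists_of_charts hA C hcov' hC
  choose h hev using hr
  have hq : r ≫ base 𝒜 = q := ext_toSpec fun c => funcs_eq_of_locally fun x => by
    obtain ⟨g, hx⟩ := hcov' x
    refine ⟨U g, hx, ?_⟩
    rw [← ev_deh_algebraMap 𝒜 r rfl g.2 (h g), ← h0 g c]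
    exact hev g _
  have hpull : ∀ (g : {g : A // g ∈ 𝒜 1}) (a : A) (ha : a ∈ 𝒜 1),
      res _ (le_top : U g ≤ ⊤) (pull1 r ha) = φ g a • res _ (le_top : U g ≤ ⊤) (pull1 r g.2) :=
    fun g a ha => (res_pull1 r g.2 ha (h g)).trans (by
      refine congrArg (fun z : Γ(X, U g) => z • res _ (le_top : U g ≤ ⊤) (pull1 r g.2)) ?_
      exact hev g a)
  let P : TMul.GenPair ((Scheme.Modules.pullback r).obj (Twist.twist 𝒜 1)) L {g : A // g ∈ 𝒜 1} :=
    { U := U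
      cover := hcov'
      e := fun g => pull1 r g.2
      f := fun g => v g.1 g.2
      he := fun g => isGen_pull1 hA r g.2 (h g)
      hf := hgen
      hc := fun g g' => ⟨resO X inf_le_left (φ g g'.1), by
        have e := congrArg (res _ (inf_le_left : U g ⊓ U g' ≤ U g)) (hpull g g'.1 g'.2)
        simpa only [res_smul, res_res] using e, by
        have e := congrArg (res L (inf_le_left : U g ⊓ U g' ≤ U g)) (h1 g g'.1 g'.2).symm
        simpa only [res_smul, res_res] using e⟩ }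
  exact ⟨r, hq, P.iso, fun a ha => P.iso_app_eq fun g => ⟨φ g a, hpull g a ha, (h1 g a ha).symm⟩⟩

/-- The morphism given by sections of an invertible module. -/
theorem exists_morphism (hA : GenDegOne 𝒜) (q : X ⟶ Spec (CommRingCat.of R))
    (v : ∀ a : A, a ∈ 𝒜 1 → Γ(L, ⊤))
    (hcov : ∀ x : X, ∃ (g : A) (hg : g ∈ 𝒜 1), x ∈ CohB1.genLocus L (homOf (v g hg)))
    (hφ : ∀ (g : A) (hg : g ∈ 𝒜 1), ∃ φ : A →+* Γ(X, CohB1.genLocus L (homOf (v g hg))),
      (∀ c : R, φ (algebraMap R A c) = resO X le_top (ProjUP.toGlobal q c)) ∧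
      ∀ (a : A) (ha : a ∈ 𝒜 1),
        φ a • res L (le_top : CohB1.genLocus L (homOf (v g hg)) ≤ ⊤) (v g hg) =
          res L (le_top : CohB1.genLocus L (homOf (v g hg)) ≤ ⊤) (v a ha)) :
    ∃ (r : X ⟶ Proj 𝒜) (_ : r ≫ base 𝒜 = q)
      (τ : (Scheme.Modules.pullback r).obj (Twist.twist 𝒜 1) ≅ L),
      ∀ (a : A) (ha : a ∈ 𝒜 1), τ.hom.app ⊤ (pull1 r ha) = v a ha := by
  choose φ h0 h1 using fun g : {g : A // g ∈ 𝒜 1} => hφ g.1 g.2
  exact exists_morphism_aux hA q v _ (fun _ => rfl) (fun g => isGen_homOf _)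
    (fun x => by obtain ⟨g, hg, hx⟩ := hcov x; exact ⟨⟨g, hg⟩, hx⟩) φ h0 h1

/-- Morphisms to `Proj` with matching pulled back sections are equal. -/
theorem eq_of_iso (hA : GenDegOne 𝒜) (r r' : X ⟶ Proj 𝒜) (hb : r ≫ base 𝒜 = r' ≫ base 𝒜)
    (τ : (Scheme.Modules.pullback r).obj (Twist.twist 𝒜 1) ≅
      (Scheme.Modules.pullback r').obj (Twist.twist 𝒜 1))
    (hτ : ∀ (a : A) (ha : a ∈ 𝒜 1), τ.hom.app ⊤ (pull1 r ha) = pull1 r' ha) : r = r' := by
  refine hom_ext hA r r' fun x => ?_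
  obtain ⟨g, hg, hgx⟩ := exists_notMem hA (r.base x)
  have hV : r ⁻¹ᵁ Proj.basicOpen 𝒜 g = r' ⁻¹ᵁ Proj.basicOpen 𝒜 g := by
    rw [← genLocus_pull1 hA r hg, ← genLocus_pull1 hA r' hg, ← hτ g hg, homOf_app, TMul.genLocus_comp]
  refine ⟨g, hg, r ⁻¹ᵁ Proj.basicOpen 𝒜 g, le_rfl, hV.le,
    (ProjectiveSpectrum.mem_basicOpen 𝒜 g _).mpr hgx, fun c => ?_, fun a ha => ?_⟩
  · rw [ev_deh_algebraMap 𝒜 r rfl hg le_rfl, ev_deh_algebraMap 𝒜 r' hb.symm hg hV.le]
  · have e := congrArg (τ.hom.app (r ⁻¹ᵁ Proj.basicOpen 𝒜 g))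
      (res_pull1 r hg ha (V := r ⁻¹ᵁ Proj.basicOpen 𝒜 g) le_rfl)
    rw [TMul.app_smul, ← app_res, ← app_res, hτ, hτ, res_pull1 r' hg ha hV.le] at e
    refine (isGen_pull1 hA r' hg hV.le _ le_rfl).1 ?_
    simp only [Groth.Agent.QC.res_self]
    exact e.symm

end ProjMor
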