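import Groth.Agent.ProjMor.Morph
import Groth.Agent.GrT.Ample
import Groth.Agent.TMul.Pullback
import Groth.Prelude.Def_ProjUP

/-!
Inverse images of sections of `O(1)` along a morphism to `Proj`.
-/

set_option autoImplicit false
set_option backward.isDefEq.respectTransparency false

universe u

open CategoryTheory CategoryTheory.Limits DirectSum TopologicalSpace AlgebraicGeometry Opposite
open Groth.Agent.QC (res resO res_res res_smul resO_resO app_res)
open TMul (IsGen val homOf val_homOf)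

noncomputable section

namespace ProjMor

variable {X Y : Scheme.{u}}

/-- Inverse image of a section over `U`. -/
def eta (r : X ⟶ Y) (M : Y.Modules) (U : Y.Opens) :
    Γ(M, U) →+ Γ((Scheme.Modules.pullback r).obj M, r ⁻¹ᵁ U) :=
  (((Scheme.Modules.pullbackPushforwardAdjunction r).unit.app M).app U).hom

lemma eta_res (r : X ⟶ Y) (M : Y.Modules) {U V : Y.Opens} (h : V ≤ U) (s : Γ(M, U)) :
    res _ (r.preimage_mono h) (eta r M U s) = eta r M V (res M h s) :=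
  app_res ((Scheme.Modules.pullbackPushforwardAdjunction r).unit.app M) h s

lemma eta_smul (r : X ⟶ Y) (M : Y.Modules) {U : Y.Opens} (c : Γ(Y, U)) (s : Γ(M, U)) :
    eta r M U (c • s) = r.app U c • eta r M U s :=
  (((Scheme.Modules.pullbackPushforwardAdjunction r).unit.app M).val.app (op U)).hom.map_smul c s

/-- Inverse image of a section, restricted. -/
lemma res_eta_smul (r : X ⟶ Y) (M : Y.Modules) {U : Y.Opens} {V : X.Opens} (h : V ≤ r ⁻¹ᵁ U)
    (c : Γ(Y, U)) (s : Γ(M, U)) :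
    res _ h (eta r M U (c • s)) = ev r U V h c • res _ h (eta r M U s) := by
  rw [eta_smul, res_smul]
  congr 1

lemma pullSec_eq (r : X ⟶ Y) (M : Y.Modules) (s : ProjUP.Γm M) :
    ProjUP.pullSec r M s = eta r M ⊤ s := rfl

lemma res_pullSec (r : X ⟶ Y) (M : Y.Modules) (s : Γ(M, ⊤)) {U : Y.Opens} {V : X.Opens}
    (h : V ≤ r ⁻¹ᵁ U) :
    res _ le_top (ProjUP.pullSec r M s) = res _ h (eta r M U (res M le_top s)) := by
  rw [← eta_res r M le_top, res_res]
  rfl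

/-- `f^*` of the morphism named by a section. -/
lemma homOf_pullSec (r : X ⟶ Y) (M : Y.Modules) (s : Γ(M, ⊤)) :
    homOf (L := (Scheme.Modules.pullback r).obj M) (ProjUP.pullSec r M s) =
      (PicLoc.pullbackStructureIso r).inv ≫ (Scheme.Modules.pullback r).map (homOf s) := by
  let adj := Scheme.Modules.pullbackPushforwardAdjunction r
  have h1 : (PicLoc.pullbackStructureIso r).hom.app ⊤ (eta r (Coh.structureModule Y) ⊤ (1 : Γ(Y, ⊤))) =
      (1 : Γ(X, ⊤)) := by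
    have h : adj.homEquiv (Coh.structureModule Y) (Coh.structureModule X)
        (PicLoc.pullbackStructureIso r).hom =
        SheafOfModules.unitToPushforwardObjUnit r.toRingCatSheafHom := Equiv.apply_symm_apply _ _
    rw [Adjunction.homEquiv_unit] at h
    refine (congrArg (fun φ : Coh.structureModule Y ⟶
      (Scheme.Modules.pushforward r).obj (Coh.structureModule X) => φ.app ⊤ (1 : Γ(Y, ⊤))) h).trans ?_
    exact map_one (r.app ⊤).hom
  have h2 : (PicLoc.pullbackStructureIso r).inv.app ⊤ (1 : Γ(X, ⊤)) =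
      eta r (Coh.structureModule Y) ⊤ (1 : Γ(Y, ⊤)) := by
    rw [← h1]
    exact congrArg (fun φ : (Scheme.Modules.pullback r).obj (Coh.structureModule Y) ⟶
      (Scheme.Modules.pullback r).obj (Coh.structureModule Y) => φ.app ⊤ (eta r (Coh.structureModule Y) ⊤ (1 : Γ(Y, ⊤))))
      (PicLoc.pullbackStructureIso r).hom_inv_id
  refine TMul.hom_ext_val ((val_homOf _ ⊤).trans ((Groth.Agent.QC.res_self _ _ _).trans ?_))
  symm
  change ((Scheme.Modules.pullback r).map (homOf s)).app ⊤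
    ((PicLoc.pullbackStructureIso r).inv.app ⊤ (1 : Γ(X, ⊤))) = ProjUP.pullSec r M s
  rw [h2]
  refine (congrArg (fun φ : Coh.structureModule Y ⟶
      (Scheme.Modules.pushforward r).obj ((Scheme.Modules.pullback r).obj M) => φ.app ⊤ (1 : Γ(Y, ⊤)))
    (adj.unit.naturality (homOf s))).symm.trans ?_
  change eta r M ⊤ (val (homOf s) ⊤) = _
  rw [val_homOf, Groth.Agent.QC.res_self]
  rfl

/-- Where the inverse image of a section generates. -/
theorem genLocus_pullSec (r : X ⟶ Y) {M : Y.Modules} (hM : PicF.IsInvertible M) (s : Γ(M, ⊤)) :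
    CohB1.genLocus _ (homOf (L := (Scheme.Modules.pullback r).obj M) (ProjUP.pullSec r M s)) =
      r ⁻¹ᵁ CohB1.genLocus M (homOf s) := by
  rw [homOf_pullSec]
  exact TMul.genLocus_pullback r hM (homOf s) (PicLoc.pullbackStructureIso r).symm

section Proj

variable {R A : Type u} [CommRing R] [CommRing A] [Algebra R A] {𝒜 : ℕ → Submodule R A}
  [GradedAlgebra 𝒜]

/-- The section `a` of `O(1)`. -/
def sec1 {a : A} (ha : a ∈ 𝒜 1) : Γ(Twist.twist 𝒜 1, ⊤) := GrT.linearSection ha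

lemma sec1_eq_globalOf {a : A} (ha : a ∈ 𝒜 1) :
    sec1 ha = (Twist.globalOf 𝒜 ⟨a, ha⟩ : Γ(Twist.twist 𝒜 1, ⊤)) := rfl

lemma genLocus_sec1 (hA : GenDegOne 𝒜) {g : A} (hg : g ∈ 𝒜 1) :
    CohB1.genLocus (Twist.twist 𝒜 1) (homOf (sec1 hg)) = Proj.basicOpen 𝒜 g := by
  have e : homOf (sec1 hg) = GrT.homOfSection _ (GrT.linearSection hg) :=
    TMul.hom_ext_val ((val_homOf _ ⊤).trans
      ((GrT.homOfSection_app _ (GrT.linearSection hg) ⊤ 1).trans (one_smul _ _)).symm)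
  exact (congrArg _ e).trans (GrT.genLocus_linearSection (exists_notMem hA) hg)

/-- `a = (a / g) g` on `D₊(g)`. -/
lemma res_sec1 {g a : A} (hg : g ∈ 𝒜 1) (ha : a ∈ 𝒜 1) :
    res (Twist.twist 𝒜 1) (le_top : Proj.basicOpen 𝒜 g ≤ ⊤) (sec1 ha) =
      GrT.deh 𝒜 hg a • res (Twist.twist 𝒜 1) le_top (sec1 hg) := by
  refine GrT.pt_ext 𝒜 𝒜 (M := A) fun y => ?_
  have hy := GrT.not_mem_pow 𝒜 (GrT.not_mem_of_mem 𝒜 le_rfl y) 1
  have h1 : (1 : A) ∉ y.1.asHomogeneousIdeal :=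
    fun h => y.1.isPrime.ne_top ((Ideal.eq_top_iff_one _).mpr h)
  rw [GrT.pt_smul, GrT.deh_of_mem 𝒜 hg ha]
  change GrT.fr 𝒜 y.1 a 1 h1 = (Localization.mk a ⟨g ^ 1, hy⟩ : Twist.Loc 𝒜 y.1) • GrT.fr 𝒜 y.1 g 1 h1
  rw [GrT.loc_smul_fr]
  exact GrT.fr_congr 𝒜 y.1 _ _ (by simp only [smul_eq_mul, pow_one, mul_one, one_mul]; ring)

/-- The pulled back sections of degree one. -/
def pull1 (r : X ⟶ Proj 𝒜) {a : A} (ha : a ∈ 𝒜 1) :
    Γ((Scheme.Modules.pullback r).obj (Twist.twist 𝒜 1), ⊤) :=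
  ProjUP.pullSec r (Twist.twist 𝒜 1) (sec1 ha)

lemma isInvertible_pull1 (hA : GenDegOne 𝒜) (r : X ⟶ Proj 𝒜) :
    PicF.IsInvertible ((Scheme.Modules.pullback r).obj (Twist.twist 𝒜 1)) :=
  PicLoc.isInvertible_pullback r (GrT.isInvertible_twist (exists_notMem hA) 1)

lemma genLocus_pull1 (hA : GenDegOne 𝒜) (r : X ⟶ Proj 𝒜) {g : A} (hg : g ∈ 𝒜 1) :
    CohB1.genLocus _ (homOf (pull1 r hg)) = r ⁻¹ᵁ Proj.basicOpen 𝒜 g :=
  (genLocus_pullSec r (GrT.isInvertible_twist (exists_notMem hA) 1) _).trans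
    (congrArg _ (genLocus_sec1 hA hg))

lemma isGen_pull1 (hA : GenDegOne 𝒜) (r : X ⟶ Proj 𝒜) {g : A} (hg : g ∈ 𝒜 1) {V : X.Opens}
    (h : V ≤ r ⁻¹ᵁ Proj.basicOpen 𝒜 g) :
    IsGen (res _ (le_top : V ≤ ⊤) (pull1 r hg)) := by
  have := (TMul.isGen_genLocus (homOf (pull1 r hg))).res (h.trans (genLocus_pull1 hA r hg).ge)
  rw [val_homOf, res_res] at this
  exact this

lemma res_pull1 (r : X ⟶ Proj 𝒜) {g a : A} (hg : g ∈ 𝒜 1) (ha : a ∈ 𝒜 1) {V : X.Opens}
    (h : V ≤ r ⁻¹ᵁ Proj.basicOpen 𝒜 g) :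
    res _ (le_top : V ≤ ⊤) (pull1 r ha) =
      ev r _ V h (GrT.deh 𝒜 hg a) • res _ (le_top : V ≤ ⊤) (pull1 r hg) := by
  rw [pull1, pull1, res_pullSec r _ (sec1 ha) h, res_pullSec r _ (sec1 hg) h, res_sec1 hg ha,
    res_eta_smul]

end Proj

end ProjMor
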