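import Groth.Agent.ProjMor.Gens
import Mathlib.LinearAlgebra.SymmetricAlgebra.Basic

/-!
The universal property for symmetric algebras and for projective space.
-/

set_option autoImplicit false
set_option backward.isDefEq.respectTransparency false

universe u

open CategoryTheory CategoryTheory.Limits DirectSum TopologicalSpace AlgebraicGeometry Opposite

noncomputable section

namespace ProjMor

section Sym

variable {R A M : Type u} [CommRing R] [CommRing A] [Algebra R A] [AddCommGroup M] [Module R M]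
  {ι : M →ₗ[R] A}

lemma adjoin_range_of_isSymmetricAlgebra (h : IsSymmetricAlgebra ι) :
    Algebra.adjoin R (Set.range ι) = ⊤ := by
  refine top_le_iff.mp fun a _ => ?_
  induction a using h.induction with
  | algebraMap c => exact Subalgebra.algebraMap_mem _ c
  | ι m => exact Algebra.subset_adjoin ⟨m, rfl⟩
  | mul a b ha hb => exact mul_mem (ha trivial) (hb trivial)
  | add a b ha hb => exact add_mem (ha trivial) (hb trivial)

lemma exists_ringHom_of_isSymmetricAlgebra (h : IsSymmetricAlgebra ι) (S : Type u) [CommRing S]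
    (σ : R →+* S) (f : M →+ S) (hf : ∀ c m, f (c • m) = σ c * f m) :
    ∃ φ : A →+* S, (∀ c, φ (algebraMap R A c) = σ c) ∧ ∀ m, φ (ι m) = f m := by
  letI := σ.toAlgebra
  let g : M →ₗ[R] S := { f with map_smul' := hf }
  refine ⟨((SymmetricAlgebra.lift g).comp h.equiv.symm.toAlgHom).toRingHom, fun c => ?_, fun m => ?_⟩
  · exact AlgHom.commutes _ c
  · have e : h.equiv.symm (ι m) = SymmetricAlgebra.ι R M m := by
      rw [AlgEquiv.symm_apply_eq, IsSymmetricAlgebra.equiv_apply, SymmetricAlgebra.lift_ι_apply]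
    change SymmetricAlgebra.lift g (h.equiv.symm (ι m)) = _
    rw [e, SymmetricAlgebra.lift_ι_apply]
    rfl

end Sym

section ProjSpace

variable (n : ℕ) (R : Type u) [CommRing R]

/-- The linear forms. -/
def linForms : (Fin (n + 1) → R) →ₗ[R] MvPolynomial (Fin (n + 1)) R :=
  Fintype.linearCombination R MvPolynomial.X

lemma linForms_single (i : Fin (n + 1)) : linForms n R (Pi.single i 1) = MvPolynomial.X i := by
  rw [linForms, Fintype.linearCombination_apply_single, one_smul]

lemma linForms_mem (c : Fin (n + 1) → R) : linForms n R c ∈ CohB1.polyGrading n R 1 := by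
  rw [linForms, Fintype.linearCombination_apply]
  exact Submodule.sum_mem _ fun i _ => Submodule.smul_mem _ _ (MvPolynomial.isHomogeneous_X R i)

lemma adjoin_linForms : Algebra.adjoin R (Set.range (linForms n R)) = ⊤ :=
  top_le_iff.mp (MvPolynomial.adjoin_range_X.ge.trans (Algebra.adjoin_mono (by
    rintro _ ⟨i, rfl⟩; exact ⟨_, linForms_single n R i⟩)))

lemma genDegOne_projSpace : GenDegOne (CohB1.polyGrading n R) :=
  genDegOne_of_adjoin (linForms_mem n R) (adjoin_linForms n R)

variable {n R} {X : Scheme.{u}} {L : X.Modules}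

lemma pull1_X (r : X ⟶ CohB1.ProjSpace n R) (i : Fin (n + 1)) :
    pull1 r (linForms_mem n R (Pi.single i 1)) =
      ProjUP.pullSec r (Twist.twistProjSpace n R 1) (ProjUP.coord n R i) := by
  change _ = pull1 r (show MvPolynomial.X i ∈ CohB1.polyGrading n R 1 from
    MvPolynomial.isHomogeneous_X R i)
  simp only [linForms_single]

/-- The pulled back sections are linear in the form. -/
lemma pull1_linForms (r : X ⟶ CohB1.ProjSpace n R) (c : Fin (n + 1) → R) :
    pull1 r (linForms_mem n R c) = ∑ i, ProjUP.toGlobal (r ≫ CohB1.ProjSpace.toSpec n R) (c i) •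
      (ProjUP.pullSec r (Twist.twistProjSpace n R 1) (ProjUP.coord n R i) :
        Γ((Scheme.Modules.pullback r).obj (Twist.twist (CohB1.polyGrading n R) 1), ⊤)) := by
  refine Groth.Agent.QC.section_eq_of_locally fun x _ => ?_
  obtain ⟨g, hg, hgx⟩ := exists_notMem (genDegOne_projSpace n R) (r.base x)
  refine ⟨r ⁻¹ᵁ Proj.basicOpen _ g, le_top, (ProjectiveSpectrum.mem_basicOpen _ g _).mpr hgx, ?_⟩
  have hX : ∀ i, MvPolynomial.X i ∈ CohB1.polyGrading n R 1 := MvPolynomial.isHomogeneous_X R
  rw [map_sum]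
  refine (res_pull1 r hg (linForms_mem n R c) le_rfl).trans ?_
  rw [show linForms n R c = ∑ i, algebraMap R _ (c i) * MvPolynomial.X i by
    rw [linForms, Fintype.linearCombination_apply]
    exact Finset.sum_congr rfl fun i _ => Algebra.smul_def _ _, map_sum, map_sum, Finset.sum_smul]
  refine Finset.sum_congr rfl fun i _ => ?_
  rw [map_mul, map_mul, mul_smul, ev_deh_algebraMap _ r rfl hg le_rfl, ← res_pull1 r hg (hX i) le_rfl,
    Groth.Agent.QC.res_smul]
  rfl

/-- Maps to projective space from generating sections. -/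
theorem exists_projSpace (q : X ⟶ Spec (CommRingCat.of R)) (hL : PicF.IsInvertible L)
    (s : Fin (n + 1) → ProjUP.Γm L) (hs : ProjUP.GeneratedBy L s) :
    ∃ (r : X ⟶ CohB1.ProjSpace n R) (_ : r ≫ CohB1.ProjSpace.toSpec n R = q)
      (τ : (Scheme.Modules.pullback r).obj (Twist.twistProjSpace n R 1) ≅ L),
      ∀ i, τ.hom.app ⊤ (ProjUP.pullSec r (Twist.twistProjSpace n R 1) (ProjUP.coord n R i)) = s i := by
  classical
  let v : (Fin (n + 1) → R) →+ Γ(L, ⊤) :=
    AddMonoidHom.mk' (fun c => ∑ i, ProjUP.toGlobal q (c i) • (s i : Γ(L, ⊤))) fun a b => by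
      rw [← Finset.sum_add_distrib]
      exact Finset.sum_congr rfl fun i _ => by rw [Pi.add_apply, map_add, add_smul]
  have hv1 : ∀ i, v (Pi.single i 1) = s i := fun i => by
    change ∑ j, ProjUP.toGlobal q ((Pi.single i (1 : R) : Fin (n + 1) → R) j) • (s j : Γ(L, ⊤)) = _
    rw [Finset.sum_eq_single i (fun j _ hj => by rw [Pi.single_eq_of_ne hj, map_zero, zero_smul])
      (fun h => absurd (Finset.mem_univ i) h), Pi.single_eq_same, map_one, one_smul]
  obtain ⟨r, hr, τ, hτ⟩ := exists_morphism_of_gens (linForms_mem n R) (adjoin_linForms n R)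
    (fun S _ σ f hf => ⟨MvPolynomial.eval₂Hom σ fun i => f (Pi.single i 1),
      fun c => MvPolynomial.eval₂Hom_C _ _ c, fun c => by
        conv_rhs => rw [pi_eq_sum_univ' c, map_sum]
        rw [linForms, Fintype.linearCombination_apply, map_sum]
        refine Finset.sum_congr rfl fun i _ => ?_
        rw [hf, MvPolynomial.smul_eq_C_mul, map_mul, MvPolynomial.eval₂Hom_C, MvPolynomial.eval₂Hom_X']⟩)
    q hL v (fun c m => by
      change ∑ i, ProjUP.toGlobal q (c * m i) • (s i : Γ(L, ⊤)) =
        ProjUP.toGlobal q c • ∑ i, ProjUP.toGlobal q (m i) • (s i : Γ(L, ⊤))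
      rw [Finset.smul_sum]
      exact Finset.sum_congr rfl fun i _ => by rw [map_mul, mul_smul])
    (fun x => top_le_iff.mp ((hs x).ge.trans (Submodule.span_mono (by
      rintro _ ⟨i, rfl⟩; exact ⟨Pi.single i 1, congrArg (fun t : Γ(L, ⊤) => (L.presheaf.germ ⊤ x trivial).hom t) (hv1 i)⟩))))
  exact ⟨r, hr, τ, fun i => by rw [← pull1_X]; exact (hτ _).trans (hv1 i)⟩

/-- Uniqueness of maps to projective space. -/
theorem eq_of_iso_projSpace (r r' : X ⟶ CohB1.ProjSpace n R)
    (h : r ≫ CohB1.ProjSpace.toSpec n R = r' ≫ CohB1.ProjSpace.toSpec n R)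
    (τ : (Scheme.Modules.pullback r).obj (Twist.twistProjSpace n R 1) ≅
      (Scheme.Modules.pullback r').obj (Twist.twistProjSpace n R 1))
    (hτ : ∀ i, τ.hom.app ⊤ (ProjUP.pullSec r (Twist.twistProjSpace n R 1) (ProjUP.coord n R i)) =
      ProjUP.pullSec r' (Twist.twistProjSpace n R 1) (ProjUP.coord n R i)) : r = r' := by
  refine eq_of_iso (genDegOne_projSpace n R) r r' h τ fun a ha => ?_
  obtain ⟨c, rfl⟩ := exists_of_mem_one (linForms_mem n R) (adjoin_linForms n R) ha
  change τ.hom.app ⊤ (pull1 r (linForms_mem n R c)) = pull1 r' (linForms_mem n R c)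
  rw [pull1_linForms, pull1_linForms, map_sum, h]
  refine Finset.sum_congr rfl fun i _ => ?_
  exact (TMul.app_smul _ _ _).trans (congrArg _ (hτ i))

end ProjSpace

end ProjMor
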