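import Groth.Agent.ProjMor.VAmple
import Groth.Agent.TMul.Assoc

/-!
Very ample tensor generated is very ample; very ample over an affine base is ample.
-/

set_option autoImplicit false
set_option backward.isDefEq.respectTransparency false

universe u

open CategoryTheory CategoryTheory.Limits TopologicalSpace AlgebraicGeometry Opposite
open Groth.Agent.QC (res resO res_res res_smul resO_resO app_res)
open TMul (IsGen val homOf val_homOf)

noncomputable section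

namespace ProjMor

variable {X S : Scheme.{u}}

/-- The coordinate sections of a very ample module. -/
theorem exists_coordinate_sections {n : ℕ} (i : X ⟶ CohB1.ProjSpaceOver n S) {N : X.Modules}
    (φ : N ≅ (Scheme.Modules.pullback i).obj (Twist.twistOver n S 1)) :
    ∃ s : Fin (n + 1) → Γ(N, ⊤), ∀ j,
      CohB1.genLocus N (homOf (s j)) = (i ≫ pz n S) ⁻¹ᵁ chart n j ∧ ∀ k,
        ev (i ≫ pz n S) (chart n j) ((i ≫ pz n S) ⁻¹ᵁ chart n j) le_rfl (ratio n j k) •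
            res N (le_top : (i ≫ pz n S) ⁻¹ᵁ chart n j ≤ ⊤) (s j) =
          res N (le_top : (i ≫ pz n S) ⁻¹ᵁ chart n j ≤ ⊤) (s k) := by
  let Z := ULift.{u} ℤ
  have hX : ∀ k, MvPolynomial.X k ∈ CohB1.polyGrading n Z 1 := MvPolynomial.isHomogeneous_X Z
  let r : X ⟶ CohB1.ProjSpace n Z := i ≫ pz n S
  let ψ : (Scheme.Modules.pullback r).obj (Twist.twist (CohB1.polyGrading n Z) 1) ≅ N :=
    ((Scheme.Modules.pullbackComp i (pz n S)).app _).symm ≪≫ φ.symm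
  refine ⟨fun k => ψ.hom.app ⊤ (pull1 r (hX k)), fun j => ⟨?_, fun k => ?_⟩⟩
  · rw [homOf_app, TMul.genLocus_comp]
    exact genLocus_pull1 (genDegOne_projSpace n Z) r (hX j)
  · refine ((app_res ψ.hom _ _).trans ((congrArg (ψ.hom.app (r ⁻¹ᵁ chart n j))
      (res_pull1 r (hX j) (hX k) le_rfl)).trans ((TMul.app_smul _ _ _).trans ?_))).symm
    exact congrArg (fun t : Γ(N, r ⁻¹ᵁ chart n j) =>
      ev r (chart n j) (r ⁻¹ᵁ chart n j) le_rfl (ratio n j k) • t) (app_res ψ.hom _ _).symm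

/-- Maps to projective space from a finite family of generating sections. -/
theorem exists_toProjSpaceOver_fintype (f : X ⟶ S) {L : X.Modules} (hL : PicF.IsInvertible L)
    {ι : Type} [Fintype ι] (s : ι → Γ(L, ⊤))
    (hcov : ∀ x : X, ∃ a, x ∈ CohB1.genLocus L (homOf (s a))) :
    ∃ (n : ℕ) (i : X ⟶ CohB1.ProjSpaceOver n S) (σ : ι → Fin (n + 1)),
      i ≫ CohB1.ProjSpaceOver.toBase n S = f ∧
      Nonempty (L ≅ (Scheme.Modules.pullback i).obj (Twist.twistOver n S 1)) ∧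
      ∀ a, ∃ _ : (i ≫ pz n S) ⁻¹ᵁ chart n (σ a) = CohB1.genLocus L (homOf (s a)), ∀ b,
        ev (i ≫ pz n S) (chart n (σ a)) ((i ≫ pz n S) ⁻¹ᵁ chart n (σ a)) le_rfl (ratio n (σ a) (σ b)) •
            res L (le_top : (i ≫ pz n S) ⁻¹ᵁ chart n (σ a) ≤ ⊤) (s a) =
          res L (le_top : (i ≫ pz n S) ⁻¹ᵁ chart n (σ a) ≤ ⊤) (s b) := by
  let e := Fintype.equivFin ι
  let s' : Fin (Fintype.card ι + 1) → ProjUP.Γm L := Fin.cons (0 : Γ(L, ⊤)) fun k => s (e.symm k)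
  have hs' : ∀ a, s' (e a).succ = s a := fun a => by simp [s']
  obtain ⟨i, hi, hiso, hj⟩ := exists_toProjSpaceOver f hL s' (generatedBy_of_mem_genLocus s' fun x => by
    obtain ⟨a, ha⟩ := hcov x
    exact ⟨(e a).succ, by rw [hs']; exact ha⟩)
  refine ⟨_, i, fun a => (e a).succ, hi, hiso, fun a => ?_⟩
  obtain ⟨hloc, hrat⟩ := hj (e a).succ
  refine ⟨by rw [hloc, hs'], fun b => ?_⟩
  have h := hrat (e b).succ
  rwa [hs', hs'] at h

lemma ratio_self (n : ℕ) (a : Fin (n + 1)) : ratio.{u} n a a = 1 := GrT.deh_self _ _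

/-- Maps to a chart of `P^n_ℤ` are given by the ratios. -/
theorem exists_hom_chart {n : ℕ} (a : Fin (n + 1)) {Z : Scheme.{u}} (r : Fin (n + 1) → Γ(Z, ⊤))
    (ha : r a = 1) :
    ∃ (g : Z ⟶ CohB1.ProjSpace n (ULift.{u} ℤ)) (h : ⊤ ≤ g ⁻¹ᵁ chart n a),
      ∀ b, ev g (chart n a) ⊤ h (ratio n a b) = r b := by
  let φ : MvPolynomial (Fin (n + 1)) (ULift.{u} ℤ) →+* Γ(Z, ⊤) :=
    MvPolynomial.eval₂Hom ((Int.castRingHom Γ(Z, ⊤)).comp ULift.ringEquiv.toRingHom) r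
  have hφ : φ (MvPolynomial.X a) = 1 := (MvPolynomial.eval₂Hom_X' _ _ a).trans ha
  obtain ⟨g, h, hg⟩ := exists_hom_of_ringHom (X := Z) (chart.{u} n a) (isAffineOpen_chart n a)
    (chartHom (MvPolynomial.isHomogeneous_X _ a) φ hφ)
  refine ⟨g, h, fun b => ?_⟩
  rw [hg, ratio]
  refine (chartHom_deh _ φ hφ _).trans ?_
  exact MvPolynomial.eval₂Hom_X' _ _ b

lemma ext_uliftInt {B : Type*} [Ring B] (f g : ULift.{u} ℤ →+* B) : f = g := by
  refine RingHom.ext fun c => ?_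
  obtain ⟨z, rfl⟩ := (ULift.ringEquiv (R := ℤ)).symm.surjective c
  exact RingHom.congr_fun (RingHom.ext_int (f.comp ULift.ringEquiv.symm.toRingHom)
    (g.comp ULift.ringEquiv.symm.toRingHom)) z

/-- Ring maps out of the functions on a chart of `P^n_ℤ` are determined by the ratios. -/
theorem ringHom_ext_ratio {n : ℕ} (a : Fin (n + 1)) {B : Type u} [CommRing B]
    (φ φ' : Γ(CohB1.ProjSpace n (ULift.{u} ℤ), chart.{u} n a) →+* B)
    (h : ∀ b, φ (ratio n a b) = φ' (ratio n a b)) : φ = φ' := by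
  have hX : MvPolynomial.X a ∈ CohB1.polyGrading n (ULift.{u} ℤ) 1 := MvPolynomial.isHomogeneous_X _ a
  let d : MvPolynomial (Fin (n + 1)) (ULift.{u} ℤ) →+* Γ(CohB1.ProjSpace n (ULift.{u} ℤ), chart.{u} n a) :=
    GrT.deh (CohB1.polyGrading n (ULift.{u} ℤ)) hX
  have hsub : φ.comp (d.comp MvPolynomial.C) = φ'.comp (d.comp MvPolynomial.C) := ext_uliftInt _ _
  have e : φ.comp d = φ'.comp d :=
    MvPolynomial.ringHom_ext (fun c => RingHom.congr_fun hsub c) fun b => h b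
  refine RingHom.ext fun z => ?_
  obtain ⟨p, rfl⟩ := exists_deh_eq hX z
  exact RingHom.congr_fun e p

lemma ev_ι_comp' {P Y : Scheme.{u}} (W : P.Opens) (p : P ⟶ Y) (D : Y.Opens) (h : W ≤ p ⁻¹ᵁ D)
    (h' : ⊤ ≤ (W.ι ≫ p) ⁻¹ᵁ D) (f : Γ(Y, D)) :
    ev (W.ι ≫ p) D ⊤ h' f = W.topIso.inv (ev p D W h f) := ev_ι_comp W p D h h' f

lemma appTop_morphismRestrict {P : Scheme.{u}} (j : X ⟶ P) (W : P.Opens) (c : Γ(P, W)) :
    (j ∣_ W).appTop (W.topIso.inv c) = (j ⁻¹ᵁ W).topIso.inv (j.app W c) := by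
  have e : W.topIso.inv ≫ (j ∣_ W).appTop = j.app W ≫ (j ⁻¹ᵁ W).topIso.inv := by
    simp [Scheme.Opens.topIso, ← Functor.map_comp]
    rfl
  exact ConcreteCategory.congr_hom e c

lemma ev_restrict_comp {P Y : Scheme.{u}} (j : X ⟶ P) (W : P.Opens) (g : W.toScheme ⟶ Y) (D : Y.Opens)
    (hg : ⊤ ≤ g ⁻¹ᵁ D) (h : ⊤ ≤ ((j ∣_ W) ≫ g) ⁻¹ᵁ D) {f : Γ(Y, D)} {c : Γ(P, W)}
    (hc : ev g D ⊤ hg f = W.topIso.inv c) :
    ev ((j ∣_ W) ≫ g) D ⊤ h f = (j ⁻¹ᵁ W).topIso.inv (j.app W c) := by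
  have e : ((j ∣_ W) ≫ g).appLE D ⊤ h = g.appLE D ⊤ hg ≫ (j ∣_ W).appLE ⊤ ⊤ le_top :=
    (Scheme.Hom.appLE_comp_appLE (j ∣_ W) g D ⊤ ⊤ hg le_top).symm
  have e2 : (j ∣_ W).appLE ⊤ ⊤ le_top = (j ∣_ W).appTop := by
    rw [Scheme.Hom.appTop, ← Scheme.Hom.appLE_eq_app]; rfl
  refine (congrArg (fun m : Γ(Y, D) ⟶ Γ((j ⁻¹ᵁ W).toScheme, ⊤) => m.hom f) e).trans ?_
  rw [e2]
  change (j ∣_ W).appTop (ev g D ⊤ hg f) = _
  rw [hc, appTop_morphismRestrict]

/-- A chart of a new map factors an immersion. -/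
theorem isImmersion_restrict_of_ratio {n N : ℕ} (i : X ⟶ CohB1.ProjSpaceOver n S) [IsImmersion i]
    (j : X ⟶ CohB1.ProjSpaceOver N S)
    (hij : j ≫ CohB1.ProjSpaceOver.toBase N S = i ≫ CohB1.ProjSpaceOver.toBase n S)
    (a : Fin (n + 1)) (c : Fin (N + 1)) (d : Fin (n + 1) → Fin (N + 1)) (hd : d a = c)
    (hU : j ⁻¹ᵁ (pz N S ⁻¹ᵁ chart N c) ≤ (i ≫ pz n S) ⁻¹ᵁ chart n a)
    (h : ∀ b, ev (j ≫ pz N S) (chart N c) (j ⁻¹ᵁ (pz N S ⁻¹ᵁ chart N c)) le_rfl (ratio N c (d b)) =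
      ev (i ≫ pz n S) (chart n a) (j ⁻¹ᵁ (pz N S ⁻¹ᵁ chart N c)) hU (ratio n a b)) :
    IsImmersion (j ∣_ (pz N S ⁻¹ᵁ chart N c)) := by
  let W : (CohB1.ProjSpaceOver N S).Opens := pz N S ⁻¹ᵁ chart N c
  obtain ⟨g0, hg0, hg0e⟩ := exists_hom_chart (Z := W.toScheme) a
    (fun b => W.topIso.inv ((pz N S).app (chart N c) (ratio N c (d b))))
    (by simp only [hd, ratio_self]; rw [map_one, map_one])
  let g : W.toScheme ⟶ CohB1.ProjSpaceOver n S :=
    pullback.lift g0 (W.ι ≫ CohB1.ProjSpaceOver.toBase N S) (specULiftZIsTerminal.hom_ext _ _)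
  have key : (j ∣_ W) ≫ g = (j ⁻¹ᵁ W).ι ≫ i := by
    refine pullback.hom_ext ?_ ?_
    · rw [Category.assoc, pullback.lift_fst, Category.assoc]
      change (j ∣_ W) ≫ g0 = (j ⁻¹ᵁ W).ι ≫ (i ≫ pz n S)
      have h1 : ⊤ ≤ ((j ∣_ W) ≫ g0) ⁻¹ᵁ chart n a := fun z _ => hg0 (x := (j ∣_ W).base z) trivial
      have h2 : ⊤ ≤ ((j ⁻¹ᵁ W).ι ≫ (i ≫ pz n S)) ⁻¹ᵁ chart n a := fun z _ => hU z.2
      have : IsIso (⊤ : (j ⁻¹ᵁ W).toScheme.Opens).ι := inferInstanceAs (IsIso (j ⁻¹ᵁ W).toScheme.topIso.hom)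
      refine (cancel_epi (⊤ : (j ⁻¹ᵁ W).toScheme.Opens).ι).mp
        (ι_comp_eq_of_ev_eq (isAffineOpen_chart n a) _ _ h1 h2 (ringHom_ext_ratio a _ _ fun b => ?_))
      rw [ev_restrict_comp j W g0 _ hg0 h1 (hg0e b), ev_ι_comp _ (i ≫ pz n S) _ hU h2, ← h b]
      refine congrArg (j ⁻¹ᵁ W).topIso.inv ?_
      change ((pz N S).app (chart N c) ≫ j.app W) _ = ((j ≫ pz N S).appLE _ _ _) _
      refine congrArg (fun m => (CommRingCat.Hom.hom m) (ratio N c (d b))) ?_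
      exact (Scheme.Hom.appLE_eq_app (j ≫ pz N S)).symm
    · rw [Category.assoc, pullback.lift_snd, Category.assoc]
      change (j ∣_ W) ≫ W.ι ≫ _ = (j ⁻¹ᵁ W).ι ≫ i ≫ CohB1.ProjSpaceOver.toBase n S
      rw [← Category.assoc, morphismRestrict_ι, Category.assoc, hij]
  have : IsImmersion ((j ∣_ W) ≫ g) := by rw [key]; infer_instance
  exact IsImmersion.of_comp (j ∣_ W) g

/-- Very ample tensor globally generated is very ample. -/
theorem isRelVeryAmplePn_tensor (f : X ⟶ S) {L L' : X.Modules} (hL : PicF.IsInvertible L)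
    (hva : RelAmple.IsRelVeryAmplePn f L) (hL' : PicF.IsInvertible L') {ι : Type} [Fintype ι]
    (t : ι → Γ(L', ⊤)) (ht : ∀ x : X, ∃ l, x ∈ CohB1.genLocus L' (homOf (t l))) :
    RelAmple.IsRelVeryAmplePn f (CohB1.tensorMod L L') := by
  obtain ⟨n, i, hi, hif, ⟨φ⟩⟩ := hva
  obtain ⟨s, hs⟩ := exists_coordinate_sections i φ
  let u : Fin (n + 1) × ι → Γ(CohB1.tensorMod L L', ⊤) := fun p => TMul.tm (s p.1) (t p.2)
  have hu : ∀ p, CohB1.genLocus _ (homOf (u p)) =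
      CohB1.genLocus L (homOf (s p.1)) ⊓ CohB1.genLocus L' (homOf (t p.2)) := fun p => by
    have e : homOf (u p) = SecTwist.tmulHom (homOf (s p.1)) (homOf (t p.2)) := TMul.hom_ext_val (by
      rw [val_homOf, Groth.Agent.QC.res_self, TMul.val_tmulHom, val_homOf, val_homOf,
        Groth.Agent.QC.res_self, Groth.Agent.QC.res_self])
    rw [e, TMul.genLocus_tmulHom hL hL']
  have hcovs : ∀ x : X, ∃ a, x ∈ CohB1.genLocus L (homOf (s a)) := fun x => by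
    obtain ⟨g, hg, hgx⟩ := exists_notMem (genDegOne_projSpace n (ULift.{u} ℤ)) ((i ≫ pz n S).base x)
    by_contra hn
    push Not at hn
    obtain ⟨c, rfl⟩ := exists_of_mem_one (linForms_mem n (ULift.{u} ℤ)) (adjoin_linForms n (ULift.{u} ℤ)) hg
    refine hgx ?_
    rw [linForms, Fintype.linearCombination_apply]
    refine Submodule.sum_mem _ fun a _ => ?_
    rw [Algebra.smul_def]
    refine Ideal.mul_mem_left _ _ ?_
    by_contra hmem
    exact hn a ((hs a).1.ge ((ProjectiveSpectrum.mem_basicOpen _ _ _).mpr hmem))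
  obtain ⟨N, j, σ, hjf, hiso, hj⟩ := exists_toProjSpaceOver_fintype f
    (TMul.isInvertible_tensorMod hL hL') u fun x => by
      obtain ⟨a, ha⟩ := hcovs x
      obtain ⟨l, hl⟩ := ht x
      exact ⟨(a, l), (hu (a, l)).ge ⟨ha, hl⟩⟩
  refine ⟨N, j, ?_, hjf, hiso⟩
  refine isImmersion_of_forall j fun x => ?_
  obtain ⟨a, ha⟩ := hcovs x
  obtain ⟨l, hl⟩ := ht x
  obtain ⟨hloc, hrat⟩ := hj (a, l)
  let W : (CohB1.ProjSpaceOver N S).Opens := pz N S ⁻¹ᵁ chart N (σ (a, l))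
  have hxW : j.base x ∈ W := hloc.ge ((hu (a, l)).ge ⟨ha, hl⟩)
  refine ⟨W, hxW, ?_⟩
  have hU : j ⁻¹ᵁ W ≤ (i ≫ pz n S) ⁻¹ᵁ chart n a :=
    (hloc.le.trans (hu (a, l)).le).trans (inf_le_left.trans (hs a).1.le)
  have := hi
  refine isImmersion_restrict_of_ratio i j (hjf.trans hif.symm) a (σ (a, l)) (fun b => σ (b, l)) rfl hU
    fun b => ?_
  have hgen : IsGen (res (CohB1.tensorMod L L') (le_top : j ⁻¹ᵁ W ≤ ⊤) (u (a, l))) := by
    have := (isGen_homOf (u (a, l))).res hloc.le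
    rwa [res_res] at this
  refine (hgen _ le_rfl).1 ?_
  change _ • res _ le_rfl (res _ le_top (u (a, l))) = _ • res _ le_rfl (res _ le_top (u (a, l)))
  rw [Groth.Agent.QC.res_self]
  refine (hrat (b, l)).trans ?_
  have e4 := congrArg (res L hU) ((hs a).2 b)
  rw [res_smul, res_res, res_res, ev_res] at e4
  rw [TMul.res_tm, TMul.res_tm, ← TMul.smul_tm]
  exact congrArg (fun z : Γ(L, j ⁻¹ᵁ W) => TMul.tm z (res L' (le_top : j ⁻¹ᵁ W ≤ ⊤) (t l))) e4.symm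

/-- `O(1)` on `P^n_S` is ample for affine `S`. -/
theorem isAmple_twistOver (n : ℕ) (S : Scheme.{u}) [IsAffine S] :
    CohB1.IsAmple (Twist.twistOver n S 1) := by
  let Z := ULift.{u} ℤ
  have hA := genDegOne_projSpace n Z
  have hX : ∀ k, MvPolynomial.X k ∈ CohB1.polyGrading n Z 1 := MvPolynomial.isHomogeneous_X Z
  have hinv : PicF.IsInvertible (Twist.twistOver n S 1) := isInvertible_pull1 hA (pz n S)
  have haff : ∀ k, IsAffineOpen (pz n S ⁻¹ᵁ chart.{u} n k) := fun k => by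
    have h := isAffineOpen_chartOver (S := S) n k (isAffineOpen_top S)
    rwa [chartOver, Scheme.Hom.preimage_top, inf_top_eq] at h
  have hcov : ∀ z : CohB1.ProjSpaceOver n S, ∃ k, z ∈ pz n S ⁻¹ᵁ chart.{u} n k := fun z => by
    obtain ⟨g, hg, hgx⟩ := exists_notMem hA ((pz n S).base z)
    by_contra hn
    push Not at hn
    obtain ⟨c, rfl⟩ := exists_of_mem_one (linForms_mem n Z) (adjoin_linForms n Z) hg
    refine hgx ?_
    rw [linForms, Fintype.linearCombination_apply]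
    refine Submodule.sum_mem _ fun k _ => ?_
    rw [Algebra.smul_def]
    refine Ideal.mul_mem_left _ _ ?_
    by_contra hmem
    exact hn k ((ProjectiveSpectrum.mem_basicOpen _ _ _).mpr hmem)
  refine ⟨hinv, ⟨?_⟩, fun z => ?_⟩
  · have e : (Set.univ : Set (CohB1.ProjSpaceOver n S)) = ⋃ k, (pz n S ⁻¹ᵁ chart.{u} n k : Set _) := by
      refine (Set.eq_univ_of_forall fun z => ?_).symm
      exact Set.mem_iUnion.mpr (hcov z)
    rw [e]
    exact isCompact_iUnion fun k => (haff k).isCompact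
  obtain ⟨k, hk⟩ := hcov z
  obtain ⟨e⟩ := TMul.nonempty_powOneIso (Twist.twistOver n S 1)
  refine ⟨0, homOf (L := Twist.twistOver n S 1) (pull1 (pz n S) (hX k)) ≫ e.inv, ?_⟩
  rw [TMul.genLocus_comp]
  have h := genLocus_pull1 hA (pz n S) (hX k)
  exact ⟨h.ge hk, (h.symm ▸ haff k :)⟩

/-- Very ample over an affine base is ample. -/
theorem isAmple_of_isRelVeryAmplePn [IsAffine S] [CompactSpace X] (f : X ⟶ S) {L : X.Modules}
    (h : RelAmple.IsRelVeryAmplePn f L) : CohB1.IsAmple L := by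
  obtain ⟨n, i, hi, -, ⟨φ⟩⟩ := h
  exact TMul.isAmple_congr φ.symm
    (TMul.isAmple_pullback i i.isEmbedding.isInducing (isAmple_twistOver n S))

end ProjMor
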