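import Groth.Agent.ProjMor.Segre
import Groth.Agent.TMul.RelAmple

/-!
Powers of ample modules are very ample; the case of an affine scheme.
-/

set_option autoImplicit false
set_option backward.isDefEq.respectTransparency false

universe u

open CategoryTheory CategoryTheory.Limits TopologicalSpace AlgebraicGeometry Opposite
open Groth.Agent.QC (res resO res_res res_smul resO_resO app_res)
open TMul (IsGen val homOf val_homOf)

noncomputable section

namespace ProjMor

variable {X S : Scheme.{u}}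

lemma isRelVeryAmplePn_congr {f : X ⟶ S} {L L' : X.Modules} (φ : L ≅ L')
    (h : RelAmple.IsRelVeryAmplePn f L) : RelAmple.IsRelVeryAmplePn f L' := by
  obtain ⟨n, i, hi, hif, ⟨e⟩⟩ := h
  exact ⟨n, i, hi, hif, ⟨φ.symm ≪≫ e⟩⟩

/-- High powers of an ample module are very ample. -/
theorem eventually_isRelVeryAmplePn (f : X ⟶ S) [LocallyOfFiniteType f] {L : X.Modules}
    (hL : CohB1.IsAmple L) :
    ∃ d₀ : ℕ, 0 < d₀ ∧ ∀ d, d₀ ≤ d → RelAmple.IsRelVeryAmplePn f (CohB1.tensorPow L d) := by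
  classical
  have := hL.2.1
  obtain ⟨m, hm, hcs⟩ := exists_hasChartSections f hL
  have : (Coh.structureModule X).IsQuasicoherent :=
    TMul.isQCoh_of_isInvertible (TMul.isInvertible_structureModule (X := X))
  obtain ⟨n₀, hn₀⟩ := TMul.exists_forall_genOn hL (F := Coh.structureModule X) (TMul.isFT_structureModule X)
  refine ⟨m + n₀, Nat.add_pos_left hm _, fun d hd => ?_⟩
  obtain ⟨a, rfl⟩ := Nat.exists_eq_add_of_le (show m ≤ d by omega)
  have hinv : ∀ k, PicF.IsInvertible (CohB1.tensorPow L k) := TMul.isInvertible_tensorPow hL.1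
  have hcov : ∀ x : X, ∃ t : Coh.structureModule X ⟶ CohB1.tensorPow L a, x ∈ CohB1.genLocus _ t := by
    intro x
    obtain ⟨D, hD, hxD, hgen⟩ := hn₀ a (by omega) x
    exact TMul.exists_mem_genLocus_of_genOn (hinv a) hD (hgen.congr (TMul.leftUnitIso _)) hxD
  choose t ht using hcov
  obtain ⟨T, hT⟩ := isCompact_univ.elim_finite_subcover
    (fun x : X => ((CohB1.genLocus _ (t x) : X.Opens) : Set X)) (fun x => (CohB1.genLocus _ (t x)).2)
    (fun x _ => Set.mem_iUnion.mpr ⟨x, ht x⟩)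
  obtain ⟨e⟩ := TMul.nonempty_powAddIso L m a
  refine isRelVeryAmplePn_congr e (isRelVeryAmplePn_tensor f (hinv m)
    (isRelVeryAmplePn_of_chartSections f (hinv m) hcs) (hinv a)
    (fun k : Fin T.card => val (t (T.equivFin.symm k)) ⊤) fun x => ?_)
  obtain ⟨y, hy, hxy⟩ := Set.mem_iUnion₂.mp (hT (Set.mem_univ x))
  refine ⟨T.equivFin ⟨y, hy⟩, ?_⟩
  have e1 : homOf (val (t y) ⊤) = t y :=
    TMul.hom_ext_val ((val_homOf _ _).trans (Groth.Agent.QC.res_self _ _ _))
  rw [Equiv.symm_apply_apply, e1]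
  exact hxy

/-- Ampleness over the parts of an affine open lying in a part where a power is very ample. -/
theorem isAmple_restrict_of_isRelVeryAmplePn (f : X ⟶ S) [QuasiCompact f] {L : X.Modules}
    (hL : PicF.IsInvertible L) {V W : S.Opens} (hWV : W ≤ V) (hW : IsAffineOpen W) {d : ℕ} (hd : 0 < d)
    (h : RelAmple.IsRelVeryAmplePn (f ∣_ V) ((CohB1.tensorPow L d).restrict (f ⁻¹ᵁ V).ι)) :
    CohB1.IsAmple (L.restrict (f ⁻¹ᵁ W).ι) := by
  have : IsAffine W.toScheme := hW
  have : CompactSpace (f ⁻¹ᵁ W).toScheme :=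
    isCompact_iff_compactSpace.mp (QuasiCompact.isCompact_preimage (f := f) W W.2 hW.isCompact)
  obtain ⟨n, i, hi, hif, ⟨φ⟩⟩ := h
  let incl : (f ⁻¹ᵁ W).toScheme ⟶ (f ⁻¹ᵁ V).toScheme := X.homOfLE (f.preimage_mono hWV)
  let i' : (f ⁻¹ᵁ W).toScheme ⟶ CohB1.ProjSpaceOver n W.toScheme :=
    pullback.lift (incl ≫ i ≫ pz n V.toScheme) (f ∣_ W) (specULiftZIsTerminal.hom_ext _ _)
  let m : CohB1.ProjSpaceOver n W.toScheme ⟶ CohB1.ProjSpaceOver n V.toScheme :=
    pullback.lift (pz n W.toScheme) (CohB1.ProjSpaceOver.toBase n W.toScheme ≫ S.homOfLE hWV)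
      (specULiftZIsTerminal.hom_ext _ _)
  have hi'1 : i' ≫ pz n W.toScheme = incl ≫ i ≫ pz n V.toScheme := pullback.lift_fst _ _ _
  have hm : i' ≫ m = incl ≫ i := by
    refine pullback.hom_ext ?_ ?_
    · rw [Category.assoc, pullback.lift_fst, hi'1]; exact (Category.assoc _ _ _).symm
    · rw [Category.assoc, pullback.lift_snd, Category.assoc, hif]
      rw [← Category.assoc]
      erw [pullback.lift_snd]
      rw [← cancel_mono V.ι, Category.assoc, Category.assoc, Scheme.homOfLE_ι, morphismRestrict_ι,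
        morphismRestrict_ι, Scheme.homOfLE_ι_assoc]
  have := hi
  have : IsImmersion (i' ≫ m) := by rw [hm]; infer_instance
  have : IsImmersion i' := IsImmersion.of_comp i' m
  have hamp : CohB1.IsAmple ((Scheme.Modules.pullback i').obj (Twist.twistOver n W.toScheme 1)) :=
    TMul.isAmple_pullback i' i'.isEmbedding.isInducing (isAmple_twistOver n W.toScheme)
  obtain ⟨e₁⟩ := TMul.nonempty_restrictRestrictIso (f ⁻¹ᵁ V).ι incl (f ⁻¹ᵁ W).ι
    (X.homOfLE_ι _) (CohB1.tensorPow L d)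
  obtain ⟨e₂⟩ := TMul.nonempty_restrictPowIso (f ⁻¹ᵁ W).ι L d
  let e₃ : (Scheme.Modules.pullback i').obj (Twist.twistOver n W.toScheme 1) ≅
      ((CohB1.tensorPow L d).restrict (f ⁻¹ᵁ V).ι).restrict incl :=
    (Scheme.Modules.pullbackComp i' (pz n W.toScheme)).app _ ≪≫
      (Scheme.Modules.pullbackCongr (hi'1.trans (Category.assoc _ _ _).symm)).app _ ≪≫
      ((Scheme.Modules.pullbackComp (incl ≫ i) (pz n V.toScheme)).app _).symm ≪≫
      ((Scheme.Modules.pullbackComp incl i).app _).symm ≪≫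
      (Scheme.Modules.pullback incl).mapIso φ.symm ≪≫
      ((Scheme.Modules.restrictFunctorIsoPullback incl).app _).symm
  exact TMul.isAmple_of_tensorPow (TMul.isInvertible_restrict _ hL) hd
    (TMul.isAmple_congr (e₃ ≪≫ e₁ ≪≫ e₂.symm) hamp)

/-- On an affine scheme of finite type every invertible module is very ample. -/
theorem isRelVeryAmplePn_of_isAffine [IsAffine S] [IsAffine X] (f : X ⟶ S) [LocallyOfFiniteType f]
    {L : X.Modules} (hL : PicF.IsInvertible L) : RelAmple.IsRelVeryAmplePn f L := by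
  classical
  refine isRelVeryAmplePn_of_chartSections f hL ?_
  have htop : ∀ x : X, ∃ t : Coh.structureModule X ⟶ L, x ∈ CohB1.genLocus L t := fun x => by
    refine TMul.exists_mem_genLocus_of_genOn hL (isAffineOpen_top X) (eq_top_iff.mpr fun y _ => ?_) trivial
    exact Submodule.subset_span ⟨y, Groth.Agent.QC.res_self _ _ _⟩
  choose t ht using htop
  choose h hhle hxh using fun x : X => (isAffineOpen_top X).exists_basicOpen_le ⟨x, ht x⟩ trivial
  obtain ⟨T, hT⟩ := isCompact_univ.elim_finite_subcover (fun x : X => (X.basicOpen (h x) : Set X))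
    (fun x => (X.basicOpen (h x)).2) (fun x _ => Set.mem_iUnion.mpr ⟨x, hxh x⟩)
  have hfin := f.finiteType_appLE (isAffineOpen_top S) (isAffineOpen_top X) (U := ⊤) (V := ⊤) (by simp)
  letI := (f.appLE ⊤ ⊤ (by simp)).hom.toAlgebra
  obtain ⟨G, hG⟩ := (hfin : Algebra.FiniteType Γ(S, ⊤) Γ(X, ⊤)).out
  let σ : T → Γ(L, ⊤) := fun x => h x • val (t x) ⊤
  let s : (T ⊕ T) ⊕ (T × G) → Γ(L, ⊤) :=
    Sum.elim (Sum.elim σ fun x => val (t x) ⊤) fun p => p.2.1 • σ p.1
  refine ⟨(T ⊕ T) ⊕ (T × G), inferInstance, s, fun z => ?_⟩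
  obtain ⟨y, hy, hzy⟩ := Set.mem_iUnion₂.mp (hT (Set.mem_univ z))
  let x : T := ⟨y, hy⟩
  have hty : ∀ U : X.Opens, res L (le_top : U ≤ ⊤) (val (t y) ⊤) = val (t y) U := fun U => TMul.res_val _ _
  have hgy : IsGen (val (t y) (X.basicOpen (h y))) := by
    have := (TMul.isGen_genLocus (t y)).res (hhle y)
    rwa [TMul.res_val] at this
  have hσ : res L (le_top : X.basicOpen (h y) ≤ ⊤) (σ x) =
      resO X (le_top : X.basicOpen (h y) ≤ ⊤) (h y) • val (t y) (X.basicOpen (h y)) := by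
    rw [res_smul, hty]
  have hu : IsUnit (resO X (le_top : X.basicOpen (h y) ≤ ⊤) (h y)) := RingedSpace.isUnit_res_basicOpen _ _
  have hloc : CohB1.genLocus L (homOf (s (Sum.inl (Sum.inl x)))) = X.basicOpen (h y) := by
    have hc : val (homOf (σ x)) (CohB1.genLocus L (t y)) =
        resO X (le_top : CohB1.genLocus L (t y) ≤ ⊤) (h y) • val (t y) (CohB1.genLocus L (t y)) := by
      rw [val_homOf, res_smul, hty]
    have e := TMul.genLocus_inf (homOf (σ x)) (TMul.isGen_genLocus (t y)) hc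
    have hle : CohB1.genLocus L (homOf (σ x)) ≤ CohB1.genLocus L (t y) := by
      intro w hw
      obtain ⟨U, g, hwU, hg⟩ := TMul.exists_isGen hL w
      obtain ⟨c, hc⟩ := (hg U le_rfl).2 (val (t y) U)
      simp only [Groth.Agent.QC.res_self] at hc
      have h2 : val (homOf (σ x)) U = (resO X le_top (h y) * c) • g := by
        rw [val_homOf, res_smul, hty, ← hc, smul_smul]
      have hu' := (TMul.mem_genLocus_iff_isUnit _ hg h2 hwU).mp hw
      rw [map_mul] at hu'
      exact (TMul.mem_genLocus_iff_isUnit _ hg hc.symm hwU).mpr (isUnit_of_mul_isUnit_right hu')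
    rw [inf_eq_right.mpr hle] at e
    refine e.trans (le_antisymm (fun w hw => Groth.Agent.QC.basicOpen_resO_le le_top _ hw) ?_)
    intro w hw
    exact (X.mem_basicOpen _ w (hhle y hw)).mpr (by
      rw [show X.presheaf.germ (CohB1.genLocus L (t y)) w (hhle y hw) (resO X le_top (h y)) =
        X.presheaf.germ ⊤ w trivial (h y) from TopCat.Presheaf.germ_res_apply _ _ _ _ _]
      exact (X.mem_basicOpen (h y) w (show w ∈ (⊤ : X.Opens) from trivial)).mp hw)
  refine ⟨Sum.inl (Sum.inl x), ⊤, le_top.trans (by simp), hloc.ge hzy, isAffineOpen_top S,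
    hloc.symm ▸ (isAffineOpen_top X).basicOpen (h y), ?_⟩
  suffices ∀ (W : X.Opens) (_ : W = X.basicOpen (h y)) (h2 : W ≤ f ⁻¹ᵁ ⊤),
      Subring.closure (Set.range (ev f ⊤ W h2) ∪
        {c | ∃ k, c • res L (le_top : W ≤ ⊤) (s (Sum.inl (Sum.inl x))) = res L (le_top : W ≤ ⊤) (s k)}) = ⊤
    from this _ hloc _
  rintro W rfl h2
  let C := Subring.closure (Set.range (ev f ⊤ (X.basicOpen (h y)) h2) ∪
    {c | ∃ k, c • res L (le_top : X.basicOpen (h y) ≤ ⊤) (s (Sum.inl (Sum.inl x))) =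
      res L (le_top : X.basicOpen (h y) ≤ ⊤) (s k)})
  have hres : ∀ a : Γ(X, ⊤), resO X (le_top : X.basicOpen (h y) ≤ ⊤) a ∈ C := by
    intro a
    have ha : a ∈ Algebra.adjoin Γ(S, ⊤) (G : Set Γ(X, ⊤)) := hG ▸ Algebra.mem_top
    induction ha using Algebra.adjoin_induction with
    | mem c hc =>
      refine Subring.subset_closure (Or.inr ⟨Sum.inr (x, ⟨c, hc⟩), ?_⟩)
      exact (res_smul L _ c (σ x)).symm
    | algebraMap r =>
      refine Subring.subset_closure (Or.inl ⟨r, ?_⟩)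
      exact (ev_res f (V := ⊤) (by simp) le_top r).symm
    | add a b _ _ ha hb => rw [map_add]; exact add_mem ha hb
    | mul a b _ _ ha hb => rw [map_mul]; exact mul_mem ha hb
  obtain ⟨u, hu'⟩ := hu
  have hinv : ((u⁻¹ : Γ(X, X.basicOpen (h y))ˣ) : Γ(X, X.basicOpen (h y))) ∈ C := by
    refine Subring.subset_closure (Or.inr ⟨Sum.inl (Sum.inr x), ?_⟩)
    change _ • res L _ (σ x) = res L _ (val (t y) ⊤)
    rw [hσ, hty, ← hu', smul_smul, Units.inv_mul, one_smul]
  refine eq_top_iff.mpr fun c _ => ?_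
  have := (isAffineOpen_top X).isLocalization_basicOpen (h y)
  obtain ⟨k, a, ha⟩ := IsLocalization.Away.surj (h y) c
  have hc : c = resO X (le_top : X.basicOpen (h y) ≤ ⊤) a * ((u⁻¹ : Γ(X, X.basicOpen (h y))ˣ) : Γ(X, X.basicOpen (h y))) ^ k := by
    have ha' : c * resO X (le_top : X.basicOpen (h y) ≤ ⊤) (h y) ^ k = resO X le_top a := ha
    rw [← ha', ← hu', mul_assoc, ← mul_pow, Units.mul_inv, one_pow, mul_one]
  rw [hc]
  exact mul_mem (hres a) (pow_mem hinv k)

end ProjMor
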