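import Groth.Agent.GrT.Dehom
import Mathlib.RingTheory.Adjoin.Basic

/-!
Morphisms to `Proj` of an algebra generated in degree one: extensionality, existence on charts, gluing.
-/

set_option autoImplicit false
set_option backward.isDefEq.respectTransparency false

universe u

open CategoryTheory DirectSum TopologicalSpace AlgebraicGeometry Opposite HomogeneousLocalization
open Groth.Agent.QC (resO resO_resO)

noncomputable section

namespace ProjMor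

section Affine

variable {X Y : Scheme.{u}}

/-- The pull back of functions, restricted. -/
def ev (r : X ⟶ Y) (D : Y.Opens) (V : X.Opens) (h : V ≤ r ⁻¹ᵁ D) : Γ(Y, D) →+* Γ(X, V) :=
  (r.appLE D V h).hom

lemma ev_res (r : X ⟶ Y) {D : Y.Opens} {V V' : X.Opens} (h : V ≤ r ⁻¹ᵁ D) (i : V' ≤ V) (f : Γ(Y, D)) :
    resO X i (ev r D V h f) = ev r D V' (i.trans h) f := by
  change (r.appLE D V h ≫ X.presheaf.map (homOfLE i).op) f = _
  rw [Scheme.Hom.appLE_map]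
  rfl

lemma ev_resO (r : X ⟶ Y) {D D' : Y.Opens} {V : X.Opens} (h : V ≤ r ⁻¹ᵁ D') (i : D' ≤ D) (f : Γ(Y, D)) :
    ev r D' V h (resO Y i f) = ev r D V (h.trans (r.preimage_mono i)) f := by
  change (Y.presheaf.map (homOfLE i).op ≫ r.appLE D' V h) f = _
  rw [Scheme.Hom.map_appLE]
  rfl

/-- A ring map from the functions on an affine open gives a morphism into it. -/
theorem exists_hom_of_ringHom (D : Y.Opens) (hD : IsAffineOpen D) (ψ : Γ(Y, D) →+* Γ(X, ⊤)) :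
    ∃ (r : X ⟶ Y) (h : ⊤ ≤ r ⁻¹ᵁ D), ev r D ⊤ h = ψ := by
  let m : X ⟶ Spec Γ(Y, D) := X.toSpecΓ ≫ Spec.map (CommRingCat.ofHom ψ)
  have h : ⊤ ≤ (m ≫ hD.fromSpec) ⁻¹ᵁ D := by
    rw [Scheme.Hom.comp_preimage, hD.fromSpec_preimage_self]
    exact le_rfl
  refine ⟨m ≫ hD.fromSpec, h, ?_⟩
  have hm : m.appTop = (Scheme.ΓSpecIso Γ(Y, D)).hom ≫ CommRingCat.ofHom ψ := by
    simp [m]
  suffices (m ≫ hD.fromSpec).appLE D ⊤ h = CommRingCat.ofHom ψ from congrArg CommRingCat.Hom.hom this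
  rw [Scheme.Hom.comp_appLE, hD.fromSpec_app_self, Category.assoc, Scheme.Hom.map_appLE,
    show m.appLE ⊤ ⊤ le_top = m.appTop by rw [Scheme.Hom.appTop, ← Scheme.Hom.appLE_eq_app]; rfl, hm,
    Iso.inv_hom_id_assoc]

/-- Morphisms into an affine open are determined by the functions. -/
theorem ι_comp_eq_of_ev_eq {D : Y.Opens} (hD : IsAffineOpen D) (r r' : X ⟶ Y) {V : X.Opens}
    (h : V ≤ r ⁻¹ᵁ D) (h' : V ≤ r' ⁻¹ᵁ D) (he : ev r D V h = ev r' D V h') :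
    V.ι ≫ r = V.ι ≫ r' := by
  have : IsAffine D.toScheme := hD
  have e : r.resLE D V h = r'.resLE D V h' := by
    refine ext_of_isAffine ?_
    rw [Scheme.Hom.appTop, Scheme.Hom.appTop, Scheme.Hom.resLE_app_top, Scheme.Hom.resLE_app_top,
      show r.appLE D V h = r'.appLE D V h' from CommRingCat.hom_ext he]
  rw [← Scheme.Hom.resLE_comp_ι r h, e, Scheme.Hom.resLE_comp_ι]

lemma ev_comp_ι (r : X ⟶ Y) (D : Y.Opens) (U : X.Opens) (V : (U : Scheme.{u}).Opens)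
    (h : V ≤ (U.ι ≫ r) ⁻¹ᵁ D) (h' : U.ι ''ᵁ V ≤ r ⁻¹ᵁ D) :
    ev (U.ι ≫ r) D V h = ev r D (U.ι ''ᵁ V) h' := by
  refine congrArg CommRingCat.Hom.hom ?_
  rw [Scheme.Hom.comp_appLE, Scheme.Opens.ι_appLE]
  rfl

end Affine

variable {R A : Type u} [CommRing R] [CommRing A] [Algebra R A] (𝒜 : ℕ → Submodule R A)
  [GradedAlgebra 𝒜]

/-- Everything is generated in degree one. -/
def GenDegOne : Prop := Algebra.adjoin R (𝒜 1 : Set A) = ⊤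

variable {𝒜}

/-- The chart `D₊(g)` has functions `deh g a`. -/
lemma exists_deh_eq {g : A} (hg : g ∈ 𝒜 1) (f : Γ(Proj 𝒜, Proj.basicOpen 𝒜 g)) :
    ∃ a : A, GrT.deh 𝒜 hg a = f := by
  obtain ⟨k, a, ha, -, rfl⟩ := GrT.exists_away 𝒜 hg one_pos f
  have ha' : a ∈ 𝒜 k := by simpa using ha
  exact ⟨a, GrT.deh_of_mem 𝒜 hg ha'⟩

lemma hom_ext_deh (hA : GenDegOne 𝒜) {S : Type*} [Ring S] {φ φ' : A →+* S}
    (h0 : ∀ c : R, φ (algebraMap R A c) = φ' (algebraMap R A c))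
    (h1 : ∀ a ∈ 𝒜 1, φ a = φ' a) : φ = φ' := by
  ext a
  have ha : a ∈ Algebra.adjoin R (𝒜 1 : Set A) := hA ▸ Algebra.mem_top
  induction ha using Algebra.adjoin_induction with
  | mem a ha => exact h1 a ha
  | algebraMap c => exact h0 c
  | add a b _ _ ha hb => rw [map_add, map_add, ha, hb]
  | mul a b _ _ ha hb => rw [map_mul, map_mul, ha, hb]

/-- Points lie in charts of degree one. -/
lemma exists_notMem (hA : GenDegOne 𝒜) (x : ProjectiveSpectrum 𝒜) :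
    ∃ g ∈ 𝒜 1, g ∉ x.asHomogeneousIdeal := by
  by_contra hn
  push Not at hn
  obtain ⟨d, f, hd, hf, hfx⟩ := GrT.exists_pos_homog 𝒜 x
  refine hfx ?_
  classical
  have key : ∀ a ∈ Algebra.adjoin R (𝒜 1 : Set A), ∀ n, 0 < n →
      (DirectSum.decompose 𝒜 a n : A) ∈ x.asHomogeneousIdeal := by
    intro a ha
    induction ha using Algebra.adjoin_induction with
    | mem a ha => exact fun n _ => x.asHomogeneousIdeal.2 n (hn a ha)
    | algebraMap c =>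
      intro n hn'
      rw [DirectSum.decompose_of_mem_ne 𝒜 (SetLike.algebraMap_mem_graded 𝒜 c) hn'.ne]
      exact Submodule.zero_mem _
    | add a b _ _ ha hb =>
      intro n hn'
      rw [DirectSum.decompose_add, DirectSum.add_apply, Submodule.coe_add]
      exact Ideal.add_mem _ (ha n hn') (hb n hn')
    | mul a b _ _ ha hb =>
      intro n hn'
      rw [DirectSum.decompose_mul, DirectSum.coe_mul_apply]
      refine Ideal.sum_mem _ fun ij hij => ?_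
      rw [Finset.mem_filter] at hij
      rcases Nat.eq_zero_or_pos ij.1 with h | h
      · exact Ideal.mul_mem_left _ _ (hb ij.2 (by omega))
      · exact Ideal.mul_mem_right _ _ (ha ij.1 h)
  have := key f (hA ▸ Algebra.mem_top) d hd
  rwa [DirectSum.decompose_of_mem_same 𝒜 hf] at this

variable {X : Scheme.{u}}

/-- Morphisms agreeing on the ratios of coordinates are equal. -/
theorem hom_ext (hA : GenDegOne 𝒜) (r r' : X ⟶ Proj 𝒜)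
    (h : ∀ x : X, ∃ (g : A) (hg : g ∈ 𝒜 1) (V : X.Opens) (hV : V ≤ r ⁻¹ᵁ Proj.basicOpen 𝒜 g)
      (hV' : V ≤ r' ⁻¹ᵁ Proj.basicOpen 𝒜 g), x ∈ V ∧
      (∀ c : R, ev r _ V hV (GrT.deh 𝒜 hg (algebraMap R A c)) = ev r' _ V hV' (GrT.deh 𝒜 hg (algebraMap R A c))) ∧
      ∀ a ∈ 𝒜 1, ev r _ V hV (GrT.deh 𝒜 hg a) = ev r' _ V hV' (GrT.deh 𝒜 hg a)) :
    r = r' := by
  choose g hg V hV hV' hxV h0 h1 using h
  refine (X.openCoverOfIsOpenCover V (top_le_iff.mp fun x _ => Opens.mem_iSup.mpr ⟨x, hxV x⟩)).hom_ext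
    _ _ fun x => ?_
  refine ι_comp_eq_of_ev_eq (ProjLib.isAffineOpen_basicOpen 𝒜 (hg x) one_pos) r r' (hV x) (hV' x) ?_
  have e : (ev r _ (V x) (hV x)).comp (GrT.deh 𝒜 (hg x)) = (ev r' _ (V x) (hV' x)).comp (GrT.deh 𝒜 (hg x)) :=
    hom_ext_deh hA (h0 x) (h1 x)
  refine RingHom.ext fun f => ?_
  obtain ⟨a, rfl⟩ := exists_deh_eq (hg x) f
  exact RingHom.congr_fun e a

/-- The ring map on the functions of a chart induced by `φ` with `φ g = 1`. -/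
def chartHom {g : A} (hg : g ∈ 𝒜 1) {S : Type u} [CommRing S] (φ : A →+* S) (hφ : φ g = 1) :
    Γ(Proj 𝒜, Proj.basicOpen 𝒜 g) →+* S :=
  ((IsLocalization.Away.lift (S := Localization.Away g) g (show IsUnit (φ g) by rw [hφ]; exact isUnit_one)).comp
    (algebraMap (Away 𝒜 g) (Localization.Away g))).comp
    (Proj.basicOpenIsoAway 𝒜 g hg one_pos).inv.hom

lemma chartHom_deh {g : A} (hg : g ∈ 𝒜 1) {S : Type u} [CommRing S] (φ : A →+* S) (hφ : φ g = 1)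
    (a : A) : chartHom hg φ hφ (GrT.deh 𝒜 hg a) = φ a := by
  suffices h : ∀ (n : ℕ) (a : A), a ∈ 𝒜 n → chartHom hg φ hφ (GrT.deh 𝒜 hg a) = φ a by
    induction a using DirectSum.Decomposition.inductionOn 𝒜 with
    | zero => simp
    | homogeneous m => exact h _ _ m.2
    | add a b ha hb => rw [map_add, map_add, map_add, ha, hb]
  intro n a ha
  rw [GrT.deh_of_mem 𝒜 hg ha]
  have h1 : (Proj.basicOpenIsoAway 𝒜 g hg one_pos).inv.hom (GrT.away 𝒜 hg n (GrT.mem_smul_one 𝒜 ha)) =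
      Away.mk 𝒜 hg n a (GrT.mem_smul_one 𝒜 ha) :=
    ConcreteCategory.congr_hom (Proj.basicOpenIsoAway 𝒜 g hg one_pos).hom_inv_id
      (Away.mk 𝒜 hg n a (GrT.mem_smul_one 𝒜 ha))
  rw [chartHom, RingHom.comp_apply, RingHom.comp_apply, h1, HomogeneousLocalization.algebraMap_apply,
    Away.val_mk, Localization.mk_eq_mk', IsLocalization.Away.lift, IsLocalization.lift_mk'_spec]
  simp [hφ]

variable (X)

/-- A chart of data for a morphism to `Proj`. -/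
structure Chart (𝒜 : ℕ → Submodule R A) [GradedAlgebra 𝒜] where
  /-- The open. -/
  U : X.Opens
  /-- The coordinate that is a unit on it. -/
  g : A
  hg : g ∈ 𝒜 1
  /-- The dehomogenised coordinates. -/
  φ : A →+* Γ(X, U)
  hφ : φ g = 1

variable {X}

/-- Two charts are compatible. -/
def Chart.Compat (C C' : Chart X 𝒜) : Prop :=
  (C.U ⊓ C'.U ≤ X.basicOpen (C.φ C'.g)) ∧
    (∀ c : R, resO X (inf_le_left : C.U ⊓ C'.U ≤ C.U) (C.φ (algebraMap R A c)) =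
      resO X (inf_le_right : C.U ⊓ C'.U ≤ C'.U) (C'.φ (algebraMap R A c))) ∧
    ∀ a ∈ 𝒜 1, resO X (inf_le_left : C.U ⊓ C'.U ≤ C.U) (C.φ a) =
      resO X (inf_le_left : C.U ⊓ C'.U ≤ C.U) (C.φ C'.g) *
        resO X (inf_le_right : C.U ⊓ C'.U ≤ C'.U) (C'.φ a)

/-- The morphism of a chart. -/
theorem Chart.exists_hom (C : Chart X 𝒜) :
    ∃ (r : (C.U : Scheme.{u}) ⟶ Proj 𝒜) (h : ⊤ ≤ r ⁻¹ᵁ Proj.basicOpen 𝒜 C.g),
      ∀ a : A, ev r _ ⊤ h (GrT.deh 𝒜 C.hg a) = C.U.topIso.inv (C.φ a) := by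
  obtain ⟨r, h, hr⟩ := exists_hom_of_ringHom (X := (C.U : Scheme.{u})) _
    (ProjLib.isAffineOpen_basicOpen 𝒜 C.hg one_pos)
    (chartHom C.hg (C.U.topIso.inv.hom.comp C.φ) (by rw [RingHom.comp_apply, C.hφ, map_one]))
  exact ⟨r, h, fun a => by rw [hr, chartHom_deh]; rfl⟩

lemma homOfLE_topIso {W U : X.Opens} (e : W ≤ U) (c : Γ(X, U)) :
    (X.homOfLE e).appLE ⊤ ⊤ le_top (U.topIso.inv c) = W.topIso.inv (resO X e c) := by
  have h : U.topIso.inv ≫ (X.homOfLE e).appLE ⊤ ⊤ le_top = X.presheaf.map (homOfLE e).op ≫ W.topIso.inv := by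
    simp [Scheme.Hom.appLE, Scheme.Opens.topIso, ← Functor.map_comp]
    erw [Category.comp_id, ← Functor.map_comp]
    rfl
  exact ConcreteCategory.congr_hom h c

lemma ev_homOfLE_comp {Y : Scheme.{u}} {W U : X.Opens} (e : W ≤ U) (r : (U : Scheme.{u}) ⟶ Y)
    (D : Y.Opens) (h : ⊤ ≤ r ⁻¹ᵁ D) (h' : ⊤ ≤ (X.homOfLE e ≫ r) ⁻¹ᵁ D) {f : Γ(Y, D)} {c : Γ(X, U)}
    (hc : ev r D ⊤ h f = U.topIso.inv c) :
    ev (X.homOfLE e ≫ r) D ⊤ h' f = W.topIso.inv (resO X e c) := by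
  have e1 : (X.homOfLE e ≫ r).appLE D ⊤ h' = r.appLE D ⊤ h ≫ (X.homOfLE e).appLE ⊤ ⊤ le_top :=
    (Scheme.Hom.appLE_comp_appLE (X.homOfLE e) r D ⊤ ⊤ h le_top).symm
  refine (congrArg (fun m : Γ(Y, D) ⟶ Γ(W.toScheme, ⊤) => m.hom f) e1).trans ?_
  rw [← homOfLE_topIso e c, ← hc]
  rfl

lemma ev_ι_comp {Y : Scheme.{u}} (U : X.Opens) (r : X ⟶ Y) (D : Y.Opens) (h : U ≤ r ⁻¹ᵁ D)
    (h' : ⊤ ≤ (U.ι ≫ r) ⁻¹ᵁ D) (f : Γ(Y, D)) :
    ev (U.ι ≫ r) D ⊤ h' f = U.topIso.inv (ev r D U h f) := by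
  have h2 : U.ι ''ᵁ ⊤ ≤ r ⁻¹ᵁ D := (U.ι_image_le ⊤).trans h
  rw [ev_comp_ι r D U ⊤ h' h2]
  refine (ev_res r h (U.ι_image_le ⊤) f).symm.trans ?_
  simp [Scheme.Opens.topIso, resO]
  rfl

variable {Z : Scheme.{u}}

/-- The cross ratios on an overlap. -/
lemma ev_cross (r : Z ⟶ Proj 𝒜) {g g' : A} (hg : g ∈ 𝒜 1) (hg' : g' ∈ 𝒜 1) {V : Z.Opens}
    (hi : V ≤ r ⁻¹ᵁ Proj.basicOpen 𝒜 g) (hj : V ≤ r ⁻¹ᵁ Proj.basicOpen 𝒜 g') {n : ℕ} {a : A}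
    (ha : a ∈ 𝒜 n) :
    ev r _ V hj (GrT.deh 𝒜 hg' a) * ev r _ V hi (GrT.deh 𝒜 hg (g' ^ n)) =
      ev r _ V hi (GrT.deh 𝒜 hg a) := by
  have hD1 : Proj.basicOpen 𝒜 (g * g') ≤ Proj.basicOpen 𝒜 g := by simp [Proj.basicOpen_mul]
  have hD2 : Proj.basicOpen 𝒜 (g * g') ≤ Proj.basicOpen 𝒜 g' := by simp [Proj.basicOpen_mul]
  have hl : V ≤ r ⁻¹ᵁ Proj.basicOpen 𝒜 (g * g') := fun z hz => by
    simp only [Proj.basicOpen_mul]
    exact ⟨hi hz, hj hz⟩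
  have e := congrArg (ev r (Proj.basicOpen 𝒜 (g * g')) V hl) (GrT.deh_cross 𝒜 hg hg' ha hD1 hD2)
  rw [map_mul, ev_resO, ev_resO, ev_resO] at e
  rw [e, mul_comm]

/-- A coordinate that pulls back to a unit. -/
lemma le_preimage_of_isUnit (r : Z ⟶ Proj 𝒜) {g g' : A} (hg : g ∈ 𝒜 1) (hg' : g' ∈ 𝒜 1)
    (hi : ⊤ ≤ r ⁻¹ᵁ Proj.basicOpen 𝒜 g) (hu : IsUnit (ev r _ ⊤ hi (GrT.deh 𝒜 hg g'))) :
    ⊤ ≤ r ⁻¹ᵁ Proj.basicOpen 𝒜 g' := by
  intro z hz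
  have h2 : z ∈ Z.basicOpen (ev r _ ⊤ hi (GrT.deh 𝒜 hg g')) := by
    rw [Z.basicOpen_of_isUnit hu]
    trivial
  have h3 : z ∈ r ⁻¹ᵁ (Proj 𝒜).basicOpen (GrT.deh 𝒜 hg g') := by
    rw [Scheme.preimage_basicOpen]
    exact ((Scheme.basicOpen_res _ _ _).le h2).2
  have hD := GrT.basicOpen_away 𝒜 hg one_pos one_pos (GrT.mem_smul_one 𝒜 hg')
  rw [← GrT.deh_of_mem 𝒜 hg hg'] at hD
  rw [hD, Proj.basicOpen_mul] at h3
  exact h3.2

/-- The chart morphisms agree on overlaps. -/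
lemma Chart.comp_eq (hA : GenDegOne 𝒜) (C C' : Chart X 𝒜) (hC : C.Compat C')
    (ρ : (C.U : Scheme.{u}) ⟶ Proj 𝒜) (hρ : ⊤ ≤ ρ ⁻¹ᵁ Proj.basicOpen 𝒜 C.g)
    (hρe : ∀ a, ev ρ _ ⊤ hρ (GrT.deh 𝒜 C.hg a) = C.U.topIso.inv (C.φ a))
    (ρ' : (C'.U : Scheme.{u}) ⟶ Proj 𝒜) (hρ' : ⊤ ≤ ρ' ⁻¹ᵁ Proj.basicOpen 𝒜 C'.g)
    (hρe' : ∀ a, ev ρ' _ ⊤ hρ' (GrT.deh 𝒜 C'.hg a) = C'.U.topIso.inv (C'.φ a)) :
    X.homOfLE (inf_le_left : C.U ⊓ C'.U ≤ C.U) ≫ ρ =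
      X.homOfLE (inf_le_right : C.U ⊓ C'.U ≤ C'.U) ≫ ρ' := by
  obtain ⟨hbas, h0, h1⟩ := hC
  set li := X.homOfLE (inf_le_left : C.U ⊓ C'.U ≤ C.U)
  set lj := X.homOfLE (inf_le_right : C.U ⊓ C'.U ≤ C'.U)
  have hi : ⊤ ≤ (li ≫ ρ) ⁻¹ᵁ Proj.basicOpen 𝒜 C.g := fun z _ => hρ (x := li.base z) trivial
  have hj : ⊤ ≤ (lj ≫ ρ') ⁻¹ᵁ Proj.basicOpen 𝒜 C'.g := fun z _ => hρ' (x := lj.base z) trivial
  have evi := fun a : A => ev_homOfLE_comp inf_le_left ρ _ hρ hi (hρe a)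
  have evj := fun a : A => ev_homOfLE_comp inf_le_right ρ' _ hρ' hj (hρe' a)
  have hu : IsUnit ((C.U ⊓ C'.U).topIso.inv (resO X inf_le_left (C.φ C'.g))) := by
    refine IsUnit.map (C.U ⊓ C'.U).topIso.inv.hom ?_
    rw [← resO_resO hbas (X.basicOpen_le _)]
    exact (RingedSpace.isUnit_res_basicOpen _ _).map _
  have hij : ⊤ ≤ (li ≫ ρ) ⁻¹ᵁ Proj.basicOpen 𝒜 C'.g :=
    le_preimage_of_isUnit _ C.hg C'.hg hi (by rw [evi]; exact hu)
  refine hom_ext hA _ _ fun z => ⟨C'.g, C'.hg, ⊤, hij, hj, trivial, fun c => ?_, fun a ha => ?_⟩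
  · have e := ev_cross (li ≫ ρ) C.hg C'.hg hi hij (SetLike.algebraMap_mem_graded 𝒜 c)
    rw [evi, evi, pow_zero, map_one, map_one, map_one, mul_one, h0 c] at e
    rw [e, evj]
  · have e := ev_cross (li ≫ ρ) C.hg C'.hg hi hij ha
    rw [evi, evi, pow_one, h1 a ha, map_mul, mul_comm] at e
    rw [evj]
    exact hu.mul_left_cancel e

/-- Gluing of charts. -/
theorem exists_of_charts (hA : GenDegOne 𝒜) {ι : Type u} (C : ι → Chart X 𝒜)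
    (hcov : ∀ x : X, ∃ i, x ∈ (C i).U) (hC : ∀ i j, (C i).Compat (C j)) :
    ∃ r : X ⟶ Proj 𝒜, ∀ i, ∃ h : (C i).U ≤ r ⁻¹ᵁ Proj.basicOpen 𝒜 (C i).g,
      ∀ a : A, ev r _ (C i).U h (GrT.deh 𝒜 (C i).hg a) = (C i).φ a := by
  choose ρ hρ hρe using fun i => (C i).exists_hom
  let 𝒰 := X.openCoverOfIsOpenCover (fun i => (C i).U)
    (top_le_iff.mp fun x _ => Opens.mem_iSup.mpr (hcov x))
  have key : ∀ i j, Limits.pullback.fst ((C i).U.ι) ((C j).U.ι) ≫ ρ i =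
      Limits.pullback.snd ((C i).U.ι) ((C j).U.ι) ≫ ρ j := fun i j => by
    refine (cancel_epi (isPullback_opens_inf (C i).U (C j).U).isoPullback.hom).mp ?_
    rw [IsPullback.isoPullback_hom_fst_assoc, IsPullback.isoPullback_hom_snd_assoc]
    exact Chart.comp_eq hA (C i) (C j) (hC i j) (ρ i) (hρ i) (hρe i) (ρ j) (hρ j) (hρe j)
  refine ⟨𝒰.glueMorphisms ρ key, fun i => ?_⟩
  have hr : (C i).U.ι ≫ 𝒰.glueMorphisms ρ key = ρ i := 𝒰.ι_glueMorphisms ρ key i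
  generalize 𝒰.glueMorphisms ρ key = r at hr ⊢
  have h : (C i).U ≤ r ⁻¹ᵁ Proj.basicOpen 𝒜 (C i).g := fun x hx => by
    have h2 := hρ i (x := (⟨x, hx⟩ : (C i).U)) trivial
    rw [← hr] at h2
    exact h2
  refine ⟨h, fun a => ?_⟩
  have e := hρe i a
  revert e
  generalize hρ i = h3
  revert h3
  rw [← hr]
  intro h3 e
  rw [ev_ι_comp _ r _ h h3] at e
  exact (ConcreteCategory.bijective_of_isIso (C i).U.topIso.inv).1 e

end ProjMor
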