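import Groth.Agent.ProjMor.Over
import Groth.Agent.TMul.GlobGen

/-!
Very ampleness relative to `P^n_S` from sections; powers of ample modules.
-/

set_option autoImplicit false
set_option backward.isDefEq.respectTransparency false

universe u

open CategoryTheory CategoryTheory.Limits TopologicalSpace AlgebraicGeometry Opposite
open Groth.Agent.QC (res resO res_res res_smul resO_resO app_res)
open TMul (IsGen val homOf val_homOf)

noncomputable section

namespace ProjMor

variable {X S : Scheme.{u}}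

/-- Sections with affine loci whose ratios generate the functions over the base. -/
def HasChartSections (f : X ⟶ S) (N : X.Modules) : Prop :=
  ∃ (ι : Type u) (_ : Fintype ι) (s : ι → Γ(N, ⊤)), ∀ x : X, ∃ (i : ι) (V : S.Opens)
    (h2 : CohB1.genLocus N (homOf (s i)) ≤ f ⁻¹ᵁ V), x ∈ CohB1.genLocus N (homOf (s i)) ∧
    IsAffineOpen V ∧ IsAffineOpen (CohB1.genLocus N (homOf (s i))) ∧
    Subring.closure (Set.range (ev f V (CohB1.genLocus N (homOf (s i))) h2) ∪
      {c | ∃ k, c • res N (le_top : CohB1.genLocus N (homOf (s i)) ≤ ⊤) (s i) =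
        res N (le_top : CohB1.genLocus N (homOf (s i)) ≤ ⊤) (s k)}) = ⊤

/-- Chart sections give very ampleness. -/
theorem isRelVeryAmplePn_of_chartSections (f : X ⟶ S) {N : X.Modules} (hN : PicF.IsInvertible N)
    (h : HasChartSections f N) : RelAmple.IsRelVeryAmplePn f N := by
  obtain ⟨ι, _, s, hs⟩ := h
  let e := Fintype.equivFin ι
  let n := Fintype.card ι
  let s' : Fin (n + 1) → ProjUP.Γm N := Fin.cons (0 : Γ(N, ⊤)) fun k => s (e.symm k)
  have hs' : ∀ i, ∃ j, s' j = s i := fun i => ⟨(e i).succ, by simp [s']⟩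
  have hgen : ProjUP.GeneratedBy N s' := generatedBy_of_mem_genLocus s' fun x => by
    obtain ⟨i, V, h2, hx, -⟩ := hs x
    obtain ⟨j, hj⟩ := hs' i
    exact ⟨j, by rw [hj]; exact hx⟩
  obtain ⟨m, hm, hiso, hj⟩ := exists_toProjSpaceOver f hN s' hgen
  refine ⟨n, m, ?_, hm, hiso⟩
  refine isImmersion_of_charts m fun x => ?_
  obtain ⟨i, V, h2, hx, hV, hU, hclo⟩ := hs x
  obtain ⟨j, hji⟩ := hs' i
  obtain ⟨hloc, hrat⟩ := hj j
  have hpre : (m ≫ pz n S) ⁻¹ᵁ chart n j = CohB1.genLocus N (homOf (s i)) := by rw [hloc, hji]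
  subst hm
  refine ⟨j, V, CohB1.genLocus N (homOf (s i)), hpre.ge, h2, hx, hV, inf_le_left.trans hpre.le, hU, ?_⟩
  rw [eq_top_iff, ← hclo, Subring.closure_le]
  rintro c (⟨a, rfl⟩ | ⟨k, hk⟩)
  · exact Subring.subset_closure (Or.inl ⟨a, rfl⟩)
  · obtain ⟨l, hl⟩ := hs' k
    refine Subring.subset_closure (Or.inr ⟨l, ?_⟩)
    have hg := (isGen_homOf (s i) (CohB1.genLocus N (homOf (s i))) le_rfl).1
    refine hg ?_
    change _ • res N le_rfl (res N le_top (s i)) = c • res N le_rfl (res N le_top (s i))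
    rw [Groth.Agent.QC.res_self, hk, ← hl]
    have e1 := congrArg (res N hpre.ge) (hrat l)
    rw [res_smul, res_res, res_res, ev_res] at e1
    refine Eq.trans (congrArg (fun t : Γ(N, ⊤) => HSMul.hSMul (α := Γ(X, CohB1.genLocus N (homOf (s i))))
      (ev (m ≫ pz n S) (chart n j) _ hpre.ge (ratio n j l)) (res N le_top t)) hji.symm) e1

variable {L : X.Modules}

/-- Chart sections are insensitive to isomorphisms. -/
lemma HasChartSections.congr {f : X ⟶ S} {N N' : X.Modules} (φ : N ≅ N') (h : HasChartSections f N) :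
    HasChartSections f N' := by
  obtain ⟨ι, _, s, hs⟩ := h
  refine ⟨ι, inferInstance, fun i => φ.hom.app ⊤ (s i), fun x => ?_⟩
  obtain ⟨i, V, h2, hx, hV, hU, hclo⟩ := hs x
  have e : CohB1.genLocus N' (homOf (φ.hom.app ⊤ (s i))) = CohB1.genLocus N (homOf (s i)) := by
    rw [homOf_app, TMul.genLocus_comp]
  refine ⟨i, V, e.le.trans h2, e.ge hx, hV, e ▸ hU, ?_⟩
  suffices ∀ (U : X.Opens) (_ : U = CohB1.genLocus N (homOf (s i))) (h2' : U ≤ f ⁻¹ᵁ V),
      Subring.closure (Set.range (ev f V U h2') ∪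
        {c | ∃ k, c • res N' (le_top : U ≤ ⊤) (φ.hom.app ⊤ (s i)) =
          res N' (le_top : U ≤ ⊤) (φ.hom.app ⊤ (s k))}) = ⊤ from this _ e _
  rintro U rfl h2'
  rw [eq_top_iff, ← hclo]
  refine Subring.closure_mono (Set.union_subset_union_right _ ?_)
  rintro c ⟨k, hk⟩
  refine ⟨k, ?_⟩
  rw [app_res, app_res, ← hk, TMul.app_smul]

/-- An ample module has a power with chart sections. -/
theorem exists_hasChartSections (f : X ⟶ S) [LocallyOfFiniteType f] (hL : CohB1.IsAmple L) :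
    ∃ m, 0 < m ∧ HasChartSections f (CohB1.tensorPow L m) := by
  classical
  have := hL.2.1
  have := TMul.isSeparated_of_isAmple hL
  have hV : ∀ x : X, ∃ V : S.Opens, IsAffineOpen V ∧ f.base x ∈ V := fun x => by
    obtain ⟨V, hV, hxV, -⟩ := exists_isAffineOpen_mem_and_subset (x := f.base x) (U := ⊤) trivial
    exact ⟨V, hV, hxV⟩
  choose V hVa hxV using hV
  choose n t hxt htV hta using fun x : X => TMul.exists_mem_le hL (U := f ⁻¹ᵁ V x) (x := x) (hxV x)
  obtain ⟨T, hT⟩ := isCompact_univ.elim_finite_subcover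
    (fun x : X => ((CohB1.genLocus _ (t x) : X.Opens) : Set X)) (fun x => (CohB1.genLocus _ (t x)).2)
    (fun x _ => Set.mem_iUnion.mpr ⟨x, hxt x⟩)
  obtain ⟨N, hN⟩ : ∃ N, ∀ x ∈ T, n x + 1 ∣ N + 1 :=
    ⟨∏ x ∈ T, (n x + 1) - 1, fun x hx => by
      rw [Nat.sub_add_cancel (Finset.prod_pos fun i _ => Nat.succ_pos _)]
      exact Finset.dvd_prod_of_mem _ hx⟩
  choose t' ht' using fun x : T => TMul.exists_genLocus_pow hL.1 (hN x x.2) (t x)
  let M := CohB1.tensorPow L (N + 1)
  have hM : PicF.IsInvertible M := TMul.isInvertible_tensorPow hL.1 _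
  let U : T → X.Opens := fun x => CohB1.genLocus M (t' x)
  have hU : ∀ x : T, U x = CohB1.genLocus _ (t x) := fun x => ht' x
  have hUa : ∀ x : T, IsAffineOpen (U x) := fun x => by rw [hU]; exact hta x
  have hUV : ∀ x : T, U x ≤ f ⁻¹ᵁ V x := fun x => (hU x).le.trans (htV x)
  have hfin : ∀ x : T, ∃ G : Finset Γ(X, U x),
      Subring.closure (Set.range (ev f (V x) (U x) (hUV x)) ∪ (G : Set Γ(X, U x))) = ⊤ := fun x => by
    have h := f.finiteType_appLE (hVa x) (hUa x) (hUV x)
    letI := (f.appLE (V x) (U x) (hUV x)).hom.toAlgebra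
    obtain ⟨G, hG⟩ := (h : Algebra.FiniteType Γ(S, V x) Γ(X, U x)).out
    refine ⟨G, ?_⟩
    have h2 := congrArg Subalgebra.toSubring hG
    rw [Algebra.adjoin_eq_ring_closure] at h2
    exact h2.trans Algebra.top_toSubring
  choose G hG using hfin
  have : (Coh.structureModule X).IsQuasicoherent :=
    TMul.isQCoh_of_isInvertible (TMul.isInvertible_structureModule (X := X))
  choose k hk using fun (x : T) (c : Γ(X, U x)) =>
    TMul.exists_twist_extends_ge (F := Coh.structureModule X) hM (t' x) c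
  let K := (Finset.univ.sup fun x : T => (G x).sup (k x)) + 1
  have hkK : ∀ (x : T) (c : G x), k x c.1 ≤ K := fun x c =>
    ((Finset.le_sup (f := k x) c.2).trans
      (Finset.le_sup (f := fun x : T => (G x).sup (k x)) (Finset.mem_univ x))).trans (Nat.le_succ _)
  choose τ hτ using fun (x : T) (c : G x) => hk x c.1 K (hkK x c)
  let P := CohB1.tensorMod (Coh.structureModule X) (CohB1.tensorPow M K)
  let σh : T → (Coh.structureModule X ⟶ P) := fun x =>
    SecTwist.tmulHom (𝟙 _) (SecTwist.powHom (t' x) K)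
  let s : T ⊕ (Σ x : T, G x) → Γ(P, ⊤) := Sum.elim (fun x => val (σh x) ⊤) fun p => τ p.1 p.2
  have hloc : ∀ x, CohB1.genLocus P (homOf (s (Sum.inl x))) = U x := fun x => by
    have e : homOf (s (Sum.inl x)) = σh x :=
      TMul.hom_ext_val ((val_homOf _ _).trans (Groth.Agent.QC.res_self _ _ _))
    rw [e, TMul.genLocus_tmulHom (TMul.isInvertible_structureModule (X := X))
      (TMul.isInvertible_tensorPow hM K)]
    have h1 : CohB1.genLocus (Coh.structureModule X) (𝟙 (Coh.structureModule X)) = ⊤ :=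
      top_le_iff.mp (TMul.le_genLocus _ (TMul.isGen_one ⊤))
    rw [h1, top_inf_eq]
    exact TMul.genLocus_powHom hM (t' x) _
  have hcs : HasChartSections f P := by
    refine ⟨T ⊕ (Σ x : T, G x), inferInstance, s, fun z => ?_⟩
    obtain ⟨y, hy, hzy⟩ := Set.mem_iUnion₂.mp (hT (Set.mem_univ z))
    let x : T := ⟨y, hy⟩
    refine ⟨Sum.inl x, V x, (hloc x).le.trans (hUV x), (hloc x).ge ((hU x).ge hzy), hVa x,
      (hloc x).symm ▸ hUa x, ?_⟩
    suffices ∀ (W : X.Opens) (_ : W = U x) (h2 : W ≤ f ⁻¹ᵁ V x),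
        Subring.closure (Set.range (ev f (V x) W h2) ∪
          {c | ∃ k, c • res P (le_top : W ≤ ⊤) (s (Sum.inl x)) = res P (le_top : W ≤ ⊤) (s k)}) = ⊤
      from this _ (hloc x) _
    rintro W rfl h2
    rw [eq_top_iff, ← hG x]
    refine Subring.closure_mono (Set.union_subset_union_right _ ?_)
    intro c hc
    refine ⟨Sum.inr ⟨x, c, hc⟩, ?_⟩
    refine Eq.trans ?_ (hτ x ⟨c, hc⟩).symm
    have e1 : res P (le_top : U x ≤ ⊤) (s (Sum.inl x)) =
        TMul.tm (M := Coh.structureModule X) (1 : Γ(X, U x)) (val (SecTwist.powHom (t' x) K) (U x)) := by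
      change res P _ (val (σh x) ⊤) = _
      rw [TMul.res_val, TMul.val_tmulHom]
      rfl
    have e2 : val (SecTwist.powHom (t' x) K) (U x) = SecTwist.pow (t' x) K (U x) :=
      SecTwist.val_powHom _ _ _
    rw [e1, e2, ← TMul.smul_tm]
    change TMul.tm _ _ = TMul.tm (M := Coh.structureModule X) c _
    congr 1
    exact mul_one (M := Γ(X, U x)) c
  obtain ⟨e₁⟩ := TMul.nonempty_powMulIso L (N + 1) K
  refine ⟨(N + 1) * K, Nat.mul_pos (Nat.succ_pos _) (Nat.succ_pos _),
    hcs.congr (TMul.leftUnitIso _ ≪≫ e₁)⟩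

end ProjMor
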