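import Groth.Agent.ProjMor.Exists

/-!
The universal property for algebras with generators in degree one and free lifting.
-/

set_option autoImplicit false
set_option backward.isDefEq.respectTransparency false

universe u

open CategoryTheory CategoryTheory.Limits DirectSum TopologicalSpace AlgebraicGeometry Opposite
open Groth.Agent.QC (res resO res_res res_smul resO_resO app_res)
open TMul (IsGen val homOf val_homOf)

noncomputable section

namespace ProjMor

variable {R A M : Type u} [CommRing R] [CommRing A] [Algebra R A] {𝒜 : ℕ → Submodule R A}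
  [GradedAlgebra 𝒜] [AddCommGroup M] [Module R M] {ι : M →ₗ[R] A}

lemma genDegOne_of_adjoin (hι : ∀ m, ι m ∈ 𝒜 1) (hgenA : Algebra.adjoin R (Set.range ι) = ⊤) :
    GenDegOne 𝒜 :=
  top_le_iff.mp (hgenA.ge.trans (Algebra.adjoin_mono (by rintro _ ⟨m, rfl⟩; exact hι m)))

lemma exists_of_mem_one (hι : ∀ m, ι m ∈ 𝒜 1) (hgenA : Algebra.adjoin R (Set.range ι) = ⊤) {a : A}
    (ha : a ∈ 𝒜 1) : ∃ m, ι m = a := by
  classical
  suffices h : ∀ a : A, (∃ m, ι m = (decompose 𝒜 a 1 : A)) ∧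
      ∃ c : R, algebraMap R A c = (decompose 𝒜 a 0 : A) by
    obtain ⟨m, hm⟩ := (h a).1
    exact ⟨m, hm.trans (decompose_of_mem_same 𝒜 ha)⟩
  intro a
  have : a ∈ Algebra.adjoin R (Set.range ι) := hgenA ▸ Algebra.mem_top
  induction this using Algebra.adjoin_induction with
  | mem a ha =>
    obtain ⟨m, rfl⟩ := ha
    exact ⟨⟨m, (decompose_of_mem_same 𝒜 (hι m)).symm⟩,
      ⟨0, (map_zero _).trans (decompose_of_mem_ne 𝒜 (hι m) one_ne_zero).symm⟩⟩
  | algebraMap c =>
    exact ⟨⟨0, (map_zero _).trans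
        (decompose_of_mem_ne 𝒜 (SetLike.algebraMap_mem_graded 𝒜 c) zero_ne_one).symm⟩,
      ⟨c, (decompose_of_mem_same 𝒜 (SetLike.algebraMap_mem_graded 𝒜 c)).symm⟩⟩
  | add a b _ _ ha hb =>
    obtain ⟨⟨m, hm⟩, c, hc⟩ := ha
    obtain ⟨⟨m', hm'⟩, c', hc'⟩ := hb
    refine ⟨⟨m + m', ?_⟩, c + c', ?_⟩
    · rw [map_add, hm, hm', decompose_add, DirectSum.add_apply, Submodule.coe_add]
    · rw [map_add, hc, hc', decompose_add, DirectSum.add_apply, Submodule.coe_add]
  | mul a b _ _ ha hb =>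
    obtain ⟨⟨m, hm⟩, c, hc⟩ := ha
    obtain ⟨⟨m', hm'⟩, c', hc'⟩ := hb
    have key : ∀ k, (decompose 𝒜 (a * b) k : A) =
        ∑ i ∈ Finset.range (k + 1), (decompose 𝒜 a i : A) * (decompose 𝒜 b (k - i) : A) := fun k => by
      rw [decompose_mul, DirectSum.coe_mul_apply_eq_sum_antidiagonal,
        Finset.Nat.sum_antidiagonal_eq_sum_range_succ (fun i j => (decompose 𝒜 a i : A) * (decompose 𝒜 b j : A))]
    refine ⟨⟨c • m' + c' • m, ?_⟩, c * c', ?_⟩
    · rw [map_add, map_smul, map_smul, hm, hm', Algebra.smul_def, Algebra.smul_def, hc, hc', key]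
      simp only [Finset.sum_range_succ, Finset.sum_range_zero, zero_add, Nat.sub_zero, Nat.sub_self]
      ring
    · rw [map_mul, hc, hc', key]
      simp

variable (hι : ∀ m, ι m ∈ 𝒜 1) (hgenA : Algebra.adjoin R (Set.range ι) = ⊤)
  {X : Scheme.{u}} {L : X.Modules}

include hι hgenA

/-- Existence for the universal property. -/
theorem exists_morphism_of_gens
    (hlift : ∀ (S : Type u) [CommRing S] (σ : R →+* S) (f : M →+ S),
      (∀ c m, f (c • m) = σ c * f m) →
      ∃ φ : A →+* S, (∀ c, φ (algebraMap R A c) = σ c) ∧ ∀ m, φ (ι m) = f m)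
    (q : X ⟶ Spec (CommRingCat.of R)) (hL : PicF.IsInvertible L) (v : M →+ Γ(L, ⊤))
    (hv : ∀ (c : R) (m : M), v (c • m) = ProjUP.toGlobal q c • v m)
    (hgen : ProjUP.GeneratedBy L v) :
    ∃ (r : X ⟶ Proj 𝒜) (_ : r ≫ base 𝒜 = q)
      (τ : (Scheme.Modules.pullback r).obj (Twist.twist 𝒜 1) ≅ L),
      ∀ m : M, τ.hom.app ⊤ (pull1 r (hι m)) = v m := by
  have hcoef : ∀ m₀ : M, ∃ φ : A →+* Γ(X, CohB1.genLocus L (homOf (v m₀))),
      (∀ c, φ (algebraMap R A c) = resO X le_top (ProjUP.toGlobal q c)) ∧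
      ∀ m, φ (ι m) • res L (le_top : CohB1.genLocus L (homOf (v m₀)) ≤ ⊤) (v m₀) =
        res L (le_top : CohB1.genLocus L (homOf (v m₀)) ≤ ⊤) (v m) := fun m₀ => by
    let e := TMul.coeffEquiv (isGen_homOf (v m₀)) le_rfl
    have hsymm : ∀ m, e.symm (res L le_top (v m)) •
        res L (le_top : CohB1.genLocus L (homOf (v m₀)) ≤ ⊤) (v m₀) = res L le_top (v m) := fun m => by
      have h := e.apply_symm_apply (res L le_top (v m))
      refine Eq.trans ?_ h
      rw [← Groth.Agent.QC.res_self L le_rfl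
        (res L (le_top : CohB1.genLocus L (homOf (v m₀)) ≤ ⊤) (v m₀))]
      rfl
    let f : M →+ Γ(X, CohB1.genLocus L (homOf (v m₀))) :=
      AddMonoidHom.mk' (fun m => e.symm (res L le_top (v m))) fun a b => by
        rw [map_add, map_add, map_add]
    obtain ⟨φ, h0, h1⟩ := hlift _ ((resO X le_top).comp (ProjUP.toGlobal q)) f fun c m => by
      change e.symm (res L le_top (v (c • m))) = _ * e.symm (res L le_top (v m))
      rw [hv, res_smul, map_smul]
      rfl
    exact ⟨φ, h0, fun m => by rw [h1]; exact hsymm m⟩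
  have hcovM : ∀ x : X, ∃ m : M, x ∈ CohB1.genLocus L (homOf (v m)) :=
    exists_mem_genLocus hL v hgen
  have hwd : ∀ m m', ι m = ι m' → v m = v m' := fun m m' hmm =>
    Groth.Agent.QC.section_eq_of_locally fun x _ => by
      obtain ⟨m₀, hx⟩ := hcovM x
      obtain ⟨φ, -, h1⟩ := hcoef m₀
      exact ⟨_, le_top, hx, by rw [← h1 m, ← h1 m', hmm]⟩
  choose μ hμ using fun (a : A) (ha : a ∈ 𝒜 1) => exists_of_mem_one hι hgenA ha
  have hvμ : ∀ m, v (μ (ι m) (hι m)) = v m := fun m => hwd _ _ (hμ _ _)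
  obtain ⟨r, hr, τ, hτ⟩ := exists_morphism (genDegOne_of_adjoin hι hgenA) q (fun a ha => v (μ a ha))
    (fun x => by
      obtain ⟨m, hx⟩ := hcovM x
      exact ⟨ι m, hι m, by rw [hvμ]; exact hx⟩)
    (fun g hg => by
      obtain ⟨φ, h0, h1⟩ := hcoef (μ g hg)
      refine ⟨φ, h0, fun a ha => ?_⟩
      have := h1 (μ a ha)
      rwa [hμ] at this)
  exact ⟨r, hr, τ, fun m => (hτ _ (hι m)).trans (hvμ m)⟩

/-- Uniqueness for the universal property. -/
theorem eq_of_iso_gens (r r' : X ⟶ Proj 𝒜) (hb : r ≫ base 𝒜 = r' ≫ base 𝒜)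
    (τ : (Scheme.Modules.pullback r).obj (Twist.twist 𝒜 1) ≅
      (Scheme.Modules.pullback r').obj (Twist.twist 𝒜 1))
    (hτ : ∀ m, τ.hom.app ⊤ (pull1 r (hι m)) = pull1 r' (hι m)) : r = r' := by
  refine eq_of_iso (genDegOne_of_adjoin hι hgenA) r r' hb τ fun a ha => ?_
  obtain ⟨m, rfl⟩ := exists_of_mem_one hι hgenA ha
  exact hτ m

end ProjMor
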